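import Groth.Agent.AmpleDescent.Descent
import Groth.Agent.HilbPoly.Components
import Groth.Agent.InvPow.AmplePullback

/-!
# Ampleness descends along surjections and is tested on components
-/

universe u

open CategoryTheory CategoryTheory.Limits AlgebraicGeometry TopologicalSpace Opposite

set_option backward.isDefEq.respectTransparency false
set_option maxHeartbeats 800000

namespace Groth.Agent.AmpleDescent

open Groth.Agent.InvPow Groth.Agent.CohFinite

variable {X : Scheme.{u}}

theorem isAmple_pullback_affine {Y : Scheme.{u}} {L : X.Modules} (h : CohB1.IsAmple L) (g : Y ⟶ X) [IsAffineHom g] :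
    CohB1.IsAmple ((Scheme.Modules.pullback g).obj L) := by
  haveI : CompactSpace X := h.2.1
  haveI : CompactSpace Y := QuasiCompact.compactSpace_of_compactSpace g
  refine InvPow.isAmple_pullback h g fun y => ?_
  obtain ⟨U, hU, hyU, -⟩ := exists_isAffineOpen_mem_and_subset (X := X) (x := g y) (U := ⊤) trivial
  exact ⟨U, hyU, hU.preimage g⟩

theorem isAmple_pullback_comp {W Y : Scheme.{u}} {L : X.Modules} (j : W ⟶ Y) [IsAffineHom j] (g : Y ⟶ X)
    (h : CohB1.IsAmple ((Scheme.Modules.pullback g).obj L)) :
    CohB1.IsAmple ((Scheme.Modules.pullback (j ≫ g)).obj L) :=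
  InvPow.isAmple_of_iso ((Scheme.Modules.pullbackComp j g).app L) (isAmple_pullback_affine h j)

variable {R : Type u} [CommRing R] [IsNoetherianRing R] (f : X ⟶ Spec (CommRingCat.of R)) [IsProper f]
  {L : X.Modules} (hL : PicF.IsInvertible L)

include f hL in
/-- Ampleness can be tested after a finite surjection. -/
theorem isAmple_of_surjective {Y : Scheme.{u}} (g : Y ⟶ X) [IsFinite g] [Surjective g]
    (h : CohB1.IsAmple ((Scheme.Modules.pullback g).obj L)) : CohB1.IsAmple L := by
  refine isAmple_of_cover f hL fun Z i _ _ => ?_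
  obtain ⟨y, hy⟩ := g.surjective (i (genericPoint Z))
  let C : Closeds Y := ⟨closure {y}, isClosed_closure⟩
  haveI : IsIntegral (Scheme.IdealSheafData.vanishingIdeal C).subscheme :=
    isIntegral_vanishingIdeal isClosed_closure isIrreducible_singleton.closure
  let j := (Scheme.IdealSheafData.vanishingIdeal C).subschemeι
  refine ⟨_, j ≫ g, inferInstance, inferInstance, ?_, isAmple_pullback_comp j g h⟩
  rw [Scheme.Hom.comp_base, TopCat.coe_comp, Set.range_comp, show Set.range j = closure {y} from
    range_vanishingIdeal_subschemeι isClosed_closure, ← closure_genericPoint i, ← hy]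
  exact (g.isClosedMap.closure_image_eq_of_continuous g.continuous {y}).symm.trans (by rw [Set.image_singleton])

omit [IsNoetherianRing R] in
include f hL in
/-- An integral closed subscheme inside the support of an ideal factors through it. -/
theorem exists_factor {Z : Scheme.{u}} (i : Z ⟶ X) [IsClosedImmersion i] [IsReduced Z] (I : X.IdealSheafData)
    (h : Set.range i ⊆ I.support) :
    ∃ i' : Z ⟶ I.subscheme, IsClosedImmersion i' ∧ i' ≫ I.subschemeι = i := by
  have hle : I.subschemeι.ker ≤ i.ker := by
    rw [Scheme.IdealSheafData.ker_subschemeι,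
      HilbPoly.ker_eq_vanishingIdeal i (C := ⟨_, i.isClosedEmbedding.isClosed_range⟩) rfl]
    exact Scheme.IdealSheafData.le_support_iff_le_vanishingIdeal.mp (SetLike.coe_subset_coe.mp h)
  refine ⟨IsClosedImmersion.lift I.subschemeι i hle, ?_, IsClosedImmersion.lift_fac _ _ _⟩
  haveI : IsClosedImmersion (IsClosedImmersion.lift I.subschemeι i hle ≫ I.subschemeι) := by
    rw [IsClosedImmersion.lift_fac]; infer_instance
  exact IsClosedImmersion.of_comp _ I.subschemeι

include f hL in
/-- Ampleness can be tested on a finite family of closed subschemes covering the space. -/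
theorem isAmple_of_closed_cover {ι : Type*} (I : ι → X.IdealSheafData)
    (hcov : ∀ x : X, ∃ k, closure ({x} : Set X) ⊆ (I k).support)
    (h : ∀ k, CohB1.IsAmple ((Scheme.Modules.pullback (I k).subschemeι).obj L)) : CohB1.IsAmple L := by
  refine isAmple_of_cover f hL fun Z i _ _ => ?_
  obtain ⟨k, hk⟩ := hcov (i (genericPoint Z))
  rw [closure_genericPoint] at hk
  obtain ⟨i', hi', he⟩ := exists_factor f hL i (I k) hk
  refine ⟨Z, i, inferInstance, inferInstance, rfl, ?_⟩
  rw [← he]
  exact isAmple_pullback_comp i' _ (h k)

end Groth.Agent.AmpleDescent
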