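import Groth.Agent.CurveDeg.Basic
import Groth.Agent.InvPow.Ample
import Groth.Agent.InvPow.Transfer
import Groth.Agent.InvPow.DualBasis
import Groth.Agent.ConormalSection.Ideal
import Groth.Agent.CohVanish.Sections

/-!
# Serre's criterion of ampleness
-/

universe u

open CategoryTheory CategoryTheory.Limits AlgebraicGeometry TopologicalSpace Opposite

set_option backward.isDefEq.respectTransparency false
set_option maxHeartbeats 1600000

namespace Groth.Agent.AmpleDescent

open InvBasic ProjUniv Groth.Agent.InvPow Groth.Agent.HilbPoly Groth.Agent.QCohLib Groth.Agent.CohFinite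

variable {X : Scheme.{u}}

theorem isCoh_idealMod [IsLocallyNoetherian X] (J : X.IdealSheafData) : Coh.IsCoh (ClSub.idealMod J) := by
  haveI : Mono (ClSub.idealModι J) := inferInstanceAs (Mono (kernel.ι _))
  exact isCoh_of_mono (ClSub.idealModι J) (isCoh_of_isInvertible (HilbPoly.isInvertible_structureModule X))
    (ConormalSection.isQuasicoherent_idealMod J)

/-- Outside the closed set the vanishing ideal is everything. -/
theorem support_cokernel_idealModι (Z : Closeds X) :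
    CohB1.support (cokernel (ClSub.idealModι (Scheme.IdealSheafData.vanishingIdeal Z))) ⊆ (Z : Set X) := by
  intro x hx
  by_contra hxZ
  refine notMem_support_cokernel _ x (fun y => ?_) hx
  obtain ⟨W, hxW, a, rfl⟩ := TopCat.Presheaf.exists_germ_eq _ y
  obtain ⟨V, hV, hxV, hVW⟩ := exists_isAffineOpen_mem_and_subset (X := X) (x := x)
    (U := W ⊓ ⟨(Z : Set X)ᶜ, Z.2.isOpen_compl⟩) ⟨hxW, hxZ⟩
  have htop : (Scheme.IdealSheafData.vanishingIdeal Z).ideal ⟨V, hV⟩ = ⊤ := by
    by_contra hne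
    obtain ⟨m, hm, hle⟩ := Ideal.exists_le_maximal _ hne
    have hp := hV.fromSpec_image_zeroLocus (((Scheme.IdealSheafData.vanishingIdeal Z).ideal ⟨V, hV⟩ : Set Γ(X, V)))
    have hz : hV.fromSpec ⟨m, hm.isPrime⟩ ∈ X.zeroLocus
        ((Scheme.IdealSheafData.vanishingIdeal Z).ideal ⟨V, hV⟩ : Set Γ(X, V)) ∩ V :=
      hp.le ⟨⟨m, hm.isPrime⟩, hle, rfl⟩
    have := (Scheme.IdealSheafData.mem_support_iff_of_mem (U := ⟨V, hV⟩) hz.2).mpr hz.1
    rw [show (Scheme.IdealSheafData.vanishingIdeal Z).support = Z from rfl] at this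
    exact (hVW hz.2).2 this
  obtain ⟨m, hm⟩ := ConormalSection.exists_idealSect_eq (Scheme.IdealSheafData.vanishingIdeal Z) ⟨V, hV⟩
    (X.presheaf.map (homOfLE (hVW.trans inf_le_left : V ≤ W)).op a) (htop ▸ Submodule.mem_top)
  refine ⟨(ClSub.idealMod (Scheme.IdealSheafData.vanishingIdeal Z)).presheaf.germ V x hxV m, ?_⟩
  rw [stalkHom_germ]
  exact (congrArg ((Coh.structureModule X).presheaf.germ V x hxV) hm).trans
    (TopCat.Presheaf.germ_res_apply (Coh.structureModule X).presheaf _ x hxV a)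

/-- **Serre's criterion.** -/
theorem isAmple_of_vanishing [IsNoetherian X] {L : X.Modules} (hL : PicF.IsInvertible L)
    (h : ∀ J : X.IdealSheafData, ∃ n₀ : ℕ, ∀ n, n₀ ≤ n →
      Subsingleton (Coh.HH X (CohB1.tensorMod (ClSub.idealMod J) (CohB1.tensorPow L n)) 1)) :
    CohB1.IsAmple L := by
  classical
  refine isAmple_of_affLoci hL ?_
  suffices key : ∀ x : X, IsClosed ({x} : Set X) → ∃ n, 0 < n ∧ ∃ s : Γ(CohB1.tensorPow L n, ⊤),
      x ∈ genOpen (isInvertible_tensorPow hL n) s ∧ IsAffineOpen (genOpen (isInvertible_tensorPow hL n) s) by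
    intro y
    obtain ⟨x, hyx, hxc⟩ := IsClosed.exists_closed_singleton (isClosed_closure (s := ({y} : Set X)))
      ⟨y, subset_closure rfl⟩
    obtain ⟨n, hn, s, hxs, haff⟩ := key x hxc
    exact ⟨n, hn, s, (specializes_iff_mem_closure.mpr hyx).mem_open
      (genOpen (isInvertible_tensorPow hL n) s).2 hxs, haff⟩
  intro x hxc
  obtain ⟨U₀, hxU₀, ℓ, hℓ⟩ := exists_isBasis hL x
  obtain ⟨U, hU, hxU, hUU₀⟩ := exists_isAffineOpen_mem_and_subset (X := X) (x := x) (U := U₀) hxU₀
  let Z : Closeds X := ⟨(U : Set X)ᶜ ∪ {x}, U.2.isClosed_compl.union hxc⟩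
  let J := Scheme.IdealSheafData.vanishingIdeal Z
  obtain ⟨n₀, hn₀⟩ := h J
  let n := n₀ + 1
  let E := CohB1.tensorPow L n
  have hE : PicF.IsInvertible E := isInvertible_tensorPow hL n
  let β : Γ(E, U) := res E (show U ≤ U₀ from hUU₀) (pw L ℓ n)
  have hβ : IsBasis E β := isBasis_res (isBasis_pw hℓ n) _
  haveI : Mono (ClSub.idealModι J) := inferInstanceAs (Mono (kernel.ι _))
  let S := ShortComplex.mk (ClSub.idealModι J) (cokernel.π _) (cokernel.condition _)
  have hS : S.ShortExact := { exact := ShortComplex.exact_of_g_is_cokernel _ (cokernelIsCokernel _) }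
  have hT := shortExact_tSC hS hE
  have hsurj := CohVanish.app_top_surjective_of_shortExact hT (hn₀ n (Nat.le_succ _))
  have hQs : CohB1.support (CohB1.tensorMod S.X₃ E) ⊆ (Z : Set X) :=
    (support_tensorMod _ hE).le.trans (support_cokernel_idealModι Z)
  let q : Γ((tSC S hE).X₃, U) := (tSC S hE).g.app U (SecTwist.tmul S.X₂ E U (oneSec X U) β)
  let C : X.Opens := ⟨({x} : Set X)ᶜ, hxc.isOpen_compl⟩
  let V : ULift.{u} Bool → X.Opens := fun b => if b.down then U else C
  have hz : ∀ (W : X.Opens) (hW : W ≤ U), W ≤ C → res (tSC S hE).X₃ hW q = 0 := fun W hW hWC =>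
    QCohLib.section_ext _ _ fun z hz => by
      have hsub : Subsingleton ((CohB1.tensorMod S.X₃ E).presheaf.stalk z) := by
        by_contra hns
        rcases hQs hns with h1 | h1
        · exact h1 (hW hz)
        · exact hWC hz h1
      exact hsub.elim _ _
  obtain ⟨g, hg⟩ := InvPow.exists_glue_sections (tSC S hE).X₃ V
    (fun z => if hzx : z = x then ⟨⟨true⟩, by simpa [V, hzx] using hxU⟩ else ⟨⟨false⟩, by simpa [V, C] using hzx⟩)
    (fun b => match b with | ⟨true⟩ => q | ⟨false⟩ => 0) fun i j => by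
      rcases i with ⟨_ | _⟩ <;> rcases j with ⟨_ | _⟩
      · rfl
      · exact (map_zero _).trans (hz _ inf_le_right inf_le_left).symm
      · exact (hz _ inf_le_left inf_le_right).trans (map_zero _).symm
      · rfl
  obtain ⟨σ, hσ⟩ := hsurj g
  obtain ⟨c₀⟩ := ProjTwist.nonempty_tensorMod_comm (Coh.structureModule X) E
  let τ : CohB1.tensorMod (Coh.structureModule X) E ≅ E := c₀ ≪≫ SecTwist.unitorR E
  let s : Γ(E, ⊤) := τ.hom.app ⊤ σ
  -- the coefficient of `s` on small opens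
  have key : ∀ (W : X.Opens) (hW : IsAffineOpen W) {γ : Γ(E, W)}, IsBasis E γ → ∀ (a : Γ(X, W)),
      res (tSC S hE).X₃ (le_top : W ≤ ⊤) g = (tSC S hE).g.app W (SecTwist.tmul S.X₂ E W (a • oneSec X W) γ) →
      ∃ b : Γ(X, W), b ∈ J.ideal ⟨W, hW⟩ ∧ gres E s W = (a + b) • τ.hom.app W (SecTwist.tmul _ E W (oneSec X W) γ) := by
    intro W hW γ hγ a ha
    let d : Γ((tSC S hE).X₂, W) :=
      gres (tSC S hE).X₂ σ W - (show Γ((tSC S hE).X₂, W) from SecTwist.tmul S.X₂ E W (a • oneSec X W) γ)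
    have hd : (tSC S hE).g.app W d = 0 := by
      show (tSC S hE).g.app W (_ - _) = 0
      rw [map_sub]
      rw [sub_eq_zero, ← ha, ← hσ]
      exact QCohLib.app_map (tSC S hE).g le_top σ
    obtain ⟨c, hc⟩ := (QCohLib.sections_exact_of_shortExact hT W).2 d hd
    obtain ⟨m, rfl⟩ := (tmul_bij S.X₁ hγ (le_refl W)).2 c
    refine ⟨OmegaSh.idealSect J W m, ConormalSection.idealSect_mem J ⟨W, hW⟩ m, ?_⟩
    have e1 : gres (tSC S hE).X₂ σ W = SecTwist.tmul S.X₂ E W ((a + OmegaSh.idealSect J W m) • oneSec X W) γ := by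
      have e2 : (tSC S hE).f.app W (SecTwist.tmul S.X₁ E W m (res E (le_refl W) γ)) =
          SecTwist.tmul S.X₂ E W (OmegaSh.idealSect J W m • oneSec X W) γ := by
        refine (tMap_tmul (ClSub.idealModι J) E W m _).trans ?_
        rw [show res E (le_refl W) γ = γ from QCohLib.map_self _ _ _]
        exact congrArg (fun z => SecTwist.tmul S.X₂ E W z γ) (smul_oneSec _).symm
      rw [e2] at hc
      rw [add_smul, ProjCoh.tmul_add_left, hc]
      exact eq_add_of_sub_eq' (a := gres (tSC S hE).X₂ σ W) rfl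
    refine (QCohLib.app_map τ.hom le_top σ).symm.trans ?_
    refine (congrArg (τ.hom.app W) e1).trans ?_
    rw [ProjCoh.tmul_smul_left]
    exact Scheme.Modules.Hom.app_smul τ.hom _ _
  have hbasis : ∀ (W : X.Opens) {γ : Γ(E, W)}, IsBasis E γ →
      IsBasis E (τ.hom.app W (SecTwist.tmul (Coh.structureModule X) E W (oneSec X W) γ)) := fun W γ hγ =>
    InvPow.isBasis_of_iso τ (isBasis_tmul (isBasis_oneSec W) hγ)
  have hmemZ : ∀ (W : X.Opens) (hW : IsAffineOpen W) (b : Γ(X, W)), b ∈ J.ideal ⟨W, hW⟩ → ∀ z ∈ W,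
      z ∈ (Z : Set X) → ∀ hzW : z ∈ W, ¬ IsUnit (X.presheaf.germ W z hzW b) := by
    intro W hW b hb z _ hzZ hzW hu
    have hs : z ∈ J.support := by
      rw [show J.support = Z from rfl]
      exact hzZ
    have hzl := (Scheme.IdealSheafData.mem_support_iff_of_mem (U := ⟨W, hW⟩) hzW).mp hs
    rw [Scheme.mem_zeroLocus_iff] at hzl
    exact hzl b hb ((X.mem_basicOpen b z hzW).mpr hu)
  refine ⟨n, Nat.succ_pos _, s, ?_, ?_⟩
  · obtain ⟨b, hb, hs⟩ := key U hU hβ 1 (by rw [one_smul]; exact hg ⟨true⟩)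
    refine ((genOpen_inf_eq_basicOpen hE (hbasis U hβ) hs).ge ((X.mem_basicOpen (1 + b) x hxU).mpr ?_)).1
    rw [map_add, map_one]
    by_contra hnu
    have h3 := Submodule.sub_mem _ ((IsLocalRing.mem_maximalIdeal _).mpr hnu)
      ((IsLocalRing.mem_maximalIdeal _).mpr (hmemZ U hU b hb x hxU (Or.inr rfl) hxU))
    rw [add_sub_cancel_right] at h3
    exact (IsLocalRing.mem_maximalIdeal _).mp h3 isUnit_one
  · have hle : genOpen hE s ≤ U := by
      intro z hz
      by_contra hzU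
      obtain ⟨W₀, hzW₀, γ₀, hγ₀⟩ := exists_isBasis hE z
      have hzC : z ∈ C := fun h => hzU (Set.mem_singleton_iff.mp h ▸ hxU)
      obtain ⟨W, hW, hzW, hWle⟩ := exists_isAffineOpen_mem_and_subset (X := X) (x := z) (U := W₀ ⊓ C) ⟨hzW₀, hzC⟩
      let γ : Γ(E, W) := res E ((show W ≤ W₀ ⊓ C from hWle).trans inf_le_left) γ₀
      have hγ : IsBasis E γ := isBasis_res hγ₀ _
      obtain ⟨b, hb, hs⟩ := key W hW hγ 0 (by
        rw [zero_smul, ProjCoh.tmul_zero_left, map_zero]
        have h1 : res (tSC S hE).X₃ (le_top : C ≤ ⊤) g = 0 := hg ⟨false⟩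
        refine (res_res (tSC S hE).X₃ (le_top : C ≤ ⊤) ((show W ≤ W₀ ⊓ C from hWle).trans inf_le_right) g).symm.trans ?_
        rw [h1]
        exact map_zero _)
      rw [zero_add] at hs
      exact hmemZ W hW b hb z hzW (Or.inl hzU) hzW
        ((X.mem_basicOpen b z hzW).mp ((genOpen_inf_eq_basicOpen hE (hbasis W hγ) hs).le ⟨hz, hzW⟩))
    obtain ⟨c, hc⟩ := exists_coef hβ (gres E s U)
    rw [show genOpen hE s = X.basicOpen c by
      rw [← genOpen_inf_eq_basicOpen hE hβ hc, inf_eq_left.mpr hle]]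
    exact hU.basicOpen c

end Groth.Agent.AmpleDescent
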