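import Groth.Agent.AmpleDescent.Proj
import Groth.Agent.AmpleDescent.Criterion
import Groth.Agent.HilbPoly.AmpleVanish
import Groth.Agent.CohFinite.DevissageGen
import Groth.Agent.CohFinite.AnnIdeal
import Groth.Agent.IdealComap.Basic

/-!
# Ampleness descends along finite covers of the integral closed subschemes
-/

universe u

open CategoryTheory CategoryTheory.Limits AlgebraicGeometry TopologicalSpace Opposite

set_option backward.isDefEq.respectTransparency false
set_option maxHeartbeats 1600000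

namespace Groth.Agent.AmpleDescent

attribute [local instance] Abelian.hasFiniteBiproducts

open InvBasic ProjUniv Groth.Agent.InvPow Groth.Agent.HilbPoly Groth.Agent.QCohLib Groth.Agent.CohFinite

variable {X : Scheme.{u}}

theorem nonempty_push_tensor_inv {W : Scheme.{u}} (g : W ⟶ X) (N : W.Modules) {A : X.Modules}
    (hA : PicF.IsInvertible A) :
    Nonempty (CohB1.tensorMod ((Scheme.Modules.pushforward g).obj N) A ≅
      (Scheme.Modules.pushforward g).obj (CohB1.tensorMod N ((Scheme.Modules.pullback g).obj A))) :=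
  ⟨@asIso _ _ _ _ (ModGroth.PushStalk.beta g N A) (isIso_beta_of_isInvertible g N hA)⟩

theorem nonempty_push_pow {W : Scheme.{u}} (g : W ⟶ X) (N : W.Modules) {L : X.Modules} (hL : PicF.IsInvertible L) :
    ∀ m : ℕ, Nonempty (CohB1.tensorMod ((Scheme.Modules.pushforward g).obj N) (CohB1.tensorPow L m) ≅
      (Scheme.Modules.pushforward g).obj
        (CohB1.tensorMod N (CohB1.tensorPow ((Scheme.Modules.pullback g).obj L) m)))
  | 0 => ⟨SecTwist.unitorR _ ≪≫ (Scheme.Modules.pushforward g).mapIso (SecTwist.unitorR N).symm⟩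
  | m + 1 => by
    have hL' := isInvertible_pullback g hL
    obtain ⟨e⟩ := nonempty_push_pow g N hL m
    obtain ⟨a⟩ := nonempty_assoc ((Scheme.Modules.pushforward g).obj N) (isInvertible_tensorPow hL m) hL
    obtain ⟨p⟩ := nonempty_push_tensor_inv g
      (CohB1.tensorMod N (CohB1.tensorPow ((Scheme.Modules.pullback g).obj L) m)) hL
    obtain ⟨a'⟩ := nonempty_assoc N (isInvertible_tensorPow hL' m) hL'
    exact ⟨a ≪≫ (ProjTwist.nonempty_tensorMod_iso e (Iso.refl L)).some ≪≫ p ≪≫
      (Scheme.Modules.pushforward g).mapIso a'.symm⟩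

/-- Eventual vanishing of the cohomology of twists. -/
def Vanishes (L M : X.Modules) : Prop :=
  ∃ n₀ : ℕ, ∀ n, n₀ ≤ n → ∀ p, 0 < p → Subsingleton (Coh.HH X (CohB1.tensorMod M (CohB1.tensorPow L n)) p)

theorem subsingleton_HH_of_retract {A B : X.Modules} (i : A ⟶ B) (r : B ⟶ A) (h : i ≫ r = 𝟙 A) {p : ℕ}
    (hB : Subsingleton (Coh.HH X B p)) : Subsingleton (Coh.HH X A p) :=
  (Function.LeftInverse.injective (f := Sheaf.H.map ((SheafOfModules.toSheaf X.ringCatSheaf).map i) p)
    (g := Sheaf.H.map ((SheafOfModules.toSheaf X.ringCatSheaf).map r) p) fun x => by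
    refine (Sheaf.H.map_comp_apply _ _ x).symm.trans ?_
    refine (congrArg (fun z => Sheaf.H.map z p x)
      (((SheafOfModules.toSheaf X.ringCatSheaf).map_comp _ _).symm.trans
        ((congrArg (SheafOfModules.toSheaf X.ringCatSheaf).map h).trans
          (CategoryTheory.Functor.map_id _ _)))).trans ?_
    exact Sheaf.H.map_id_apply _).subsingleton

theorem tMap_id {A E : X.Modules} (hE : PicF.IsInvertible E) : tMap (𝟙 A) E = 𝟙 _ :=
  hom_ext_tmul hE _ _ fun U m e => by
    rw [tMap_tmul]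
    rfl

theorem tMap_retract {A B E : X.Modules} (hE : PicF.IsInvertible E) {i : A ⟶ B} {r : B ⟶ A} (h : i ≫ r = 𝟙 A) :
    tMap i E ≫ tMap r E = 𝟙 _ := by
  rw [← LimSh.tensorModMap_comp, h]
  exact tMap_id hE

theorem vanishes_of_iso {L M N : X.Modules} (e : M ≅ N) (h : Vanishes L M) : Vanishes L N := by
  obtain ⟨n₀, hn⟩ := h
  refine ⟨n₀, fun n hn' p hp => ?_⟩
  obtain ⟨e'⟩ := ProjTwist.nonempty_tensorMod_iso e.symm (Iso.refl (CohB1.tensorPow L n))
  exact subsingleton_HH_of_retract e'.hom e'.inv e'.hom_inv_id (hn n hn' p hp)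

/-- A closed point-free description of the ideal part of a direct image killed by a quotient. -/
theorem comp_cokernel_eq_zero {W : Scheme.{u}} (g : W ⟶ X) [IsAffineHom g] {C : X.Modules} (hC : Coh.IsCoh C)
    (π : (Scheme.Modules.pushforward g).obj (Coh.structureModule W) ⟶ C) :
    (Scheme.Modules.pushforward g).map
        (ClSub.idealModι (((haveI := hC.1; annIdeal C hC.2)).comap g)) ≫ π = 0 := by
  haveI := hC.1
  let B := (annIdeal C hC.2).comap g
  refine Scheme.Modules.hom_ext _ _ fun V => AddCommGrpCat.ext fun (m : Γ((Scheme.Modules.pushforward g).obj (ClSub.idealMod B), V)) => ?_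
  refine QCohLib.section_ext _ _ fun x hx => ?_
  obtain ⟨U, hU, hxU, hUV⟩ := exists_isAffineOpen_mem_and_subset (X := X) (x := x) (U := V) hx
  rw [← TopCat.Presheaf.germ_res_apply C.presheaf (homOfLE (show U ≤ V from hUV)) x hxU,
    ← TopCat.Presheaf.germ_res_apply C.presheaf (homOfLE (show U ≤ V from hUV)) x hxU (((0 : _ ⟶ C).app V) m)]
  congr 1
  refine Eq.trans ?_ (map_zero _).symm
  refine (QCohLib.app_map ((Scheme.Modules.pushforward g).map (ClSub.idealModι B) ≫ π) (show U ≤ V from hUV) m).symm.trans ?_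
  obtain ⟨m', hm'⟩ : ∃ m', m' = ((Scheme.Modules.pushforward g).obj (ClSub.idealMod B)).presheaf.map
      (homOfLE (show U ≤ V from hUV)).op m := ⟨_, rfl⟩
  rw [← hm']
  show π.app U ((Scheme.Modules.Hom.app ((Scheme.Modules.pushforward g).map (ClSub.idealModι B)) U) m') = 0
  let W' : W.affineOpens := ⟨g ⁻¹ᵁ U, hU.preimage g⟩
  have hm : OmegaSh.idealSect B W'.1 m' ∈ B.ideal W' := ConormalSection.idealSect_mem B W' m'
  rw [IdealComap.ideal_comap (annIdeal C hC.2) g W' ⟨U, hU⟩ le_rfl] at hm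
  suffices H : ∀ a ∈ ((annIdeal C hC.2).ideal ⟨U, hU⟩).map (g.appLE U W'.1 le_rfl).hom, ∀ r : Γ(W, g ⁻¹ᵁ U),
      π.app U (show Γ((Scheme.Modules.pushforward g).obj (Coh.structureModule W), U) from r * a) = 0 by
    have := H _ hm 1
    rw [one_mul] at this
    exact this
  intro a ha
  induction ha using Submodule.span_induction with
  | mem b hb =>
    obtain ⟨c, hc, rfl⟩ := hb
    intro r
    have e : (show Γ((Scheme.Modules.pushforward g).obj (Coh.structureModule W), U) from r * (g.appLE U W'.1 le_rfl) c) =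
        c • (show Γ((Scheme.Modules.pushforward g).obj (Coh.structureModule W), U) from r) := by
      show r * _ = g.app U c * r
      rw [mul_comm, Scheme.Hom.app_eq_appLE]
    refine (congrArg (π.app U) e).trans ((Scheme.Modules.Hom.app_smul π c _).trans ?_)
    exact killedByIdeal_annIdeal C hC.2 ⟨U, hU⟩ c hc _
  | zero => intro r; rw [mul_zero]; exact map_zero _
  | add b c _ _ hb hc =>
    intro r
    rw [mul_add]
    exact (map_add (π.app U).hom _ _).trans ((congrArg₂ (· + ·) (hb r) (hc r)).trans (add_zero _))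
  | smul r' b _ hb =>
    intro r
    rw [smul_eq_mul, ← mul_assoc]
    exact hb _

/-- Eventual vanishing for modules supported where `L` is ample on finite covers. -/
theorem vanishes_of_cover {R : Type u} [CommRing R] [IsNoetherianRing R] (f : X ⟶ Spec (CommRingCat.of R)) [IsProper f]
    {L : X.Modules} (hL : PicF.IsInvertible L) (X' : Set X)
    (h : ∀ (Z : Scheme.{u}) (i : Z ⟶ X) [IsClosedImmersion i] [IsIntegral Z], Set.range i ⊆ X' →
      ∃ (W : Scheme.{u}) (g : W ⟶ X) (_ : IsFinite g) (_ : IsIntegral W),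
        Set.range g = Set.range i ∧ CohB1.IsAmple ((Scheme.Modules.pullback g).obj L))
    (M : X.Modules) (hM : Coh.IsCoh M) (hs : CohB1.support M ⊆ X') : Vanishes L M := by
  haveI : CompactSpace X := QuasiCompact.compactSpace_of_compactSpace f
  haveI : IsLocallyNoetherian X := LocallyOfFiniteType.isLocallyNoetherian f
  haveI : IsNoetherian X := ⟨⟩
  refine devissage_generic (Vanishes L) (fun M N ⟨e⟩ h => vanishes_of_iso e h) ?_ ?_ ?_ M hM
    (X' := X') hs
  · intro M hM
    refine ⟨0, fun n _ p _ => CohVanish.subsingleton_HH_of_isZero ?_ p⟩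
    refine isZero_of_support_empty ?_
    rw [support_tensorMod M (isInvertible_tensorPow hL n)]
    exact support_eq_empty_of_isZero hM
  · intro S hS h1 h2 h3 _ ⟨a, ha⟩ ⟨b, hb⟩
    refine ⟨a + b, fun n hn p hp => ?_⟩
    exact CohVanish.subsingleton_HH_of_shortExact₂ (shortExact_tSC hS (isInvertible_tensorPow hL n)) p
      (ha n (by omega) p hp) (hb n (by omega) p hp)
  intro Z i _ _ hi _
  obtain ⟨W, g, _, _, hrange, hamp⟩ := h Z i hi
  refine Or.inr ?_
  let ξ := i (genericPoint Z)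
  have hgen : ∀ w : W, ξ ⤳ g w := fun w => by
    rw [specializes_iff_mem_closure, closure_genericPoint]
    exact hrange.le ⟨w, rfl⟩
  obtain ⟨w₀, hw₀⟩ : ξ ∈ Set.range g := hrange.ge ⟨genericPoint Z, rfl⟩
  let G := (Coh.push g).obj (Coh.structureModule W)
  haveI : IsLocallyNoetherian W := LocallyOfFiniteType.isLocallyNoetherian g
  haveI : IsProper (g ≫ f) := inferInstance
  have hG : Coh.IsCoh G :=
    QCohLib.isCoh_pushforward g (isCoh_of_isInvertible (HilbPoly.isInvertible_structureModule W))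
  refine ⟨G, hG, ?_, ?_, ?_, ?_⟩
  · intro hsub
    have e : TopCat.Presheaf.germ G.presheaf ⊤ ξ trivial (show Γ(G, ⊤) from (1 : Γ(W, g ⁻¹ᵁ ⊤))) =
        TopCat.Presheaf.germ G.presheaf ⊤ ξ trivial 0 := hsub.elim _ _
    obtain ⟨V, hV, i₁, i₂, e'⟩ := TopCat.Presheaf.germ_eq G.presheaf ξ (show ξ ∈ (⊤ : X.Opens) from trivial) (show ξ ∈ (⊤ : X.Opens) from trivial) _ _ e
    rw [map_zero] at e'
    haveI : Nonempty (g ⁻¹ᵁ V : W.Opens) := ⟨⟨w₀, show g w₀ ∈ V by rw [hw₀]; exact hV⟩⟩
    exact one_ne_zero ((map_one (W.presheaf.map ((Opens.map g.base).map i₁).op).hom).symm.trans e')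
  · intro a ha m
    obtain ⟨V, hξV, c, rfl⟩ := TopCat.Presheaf.exists_germ_eq X.presheaf a
    obtain ⟨V', hξV', r, rfl⟩ := TopCat.Presheaf.exists_germ_eq G.presheaf m
    have hsm : ∀ (c' : Γ(X, V ⊓ V')) (r' : Γ(G, V ⊓ V')), g.app (V ⊓ V') c' = 0 → c' • r' = 0 := fun c' r' h0 => by
      show g.app (V ⊓ V') c' * (show Γ(W, g ⁻¹ᵁ (V ⊓ V')) from r') = 0
      rw [h0, zero_mul]
    have hmem : ξ ∈ V ⊓ V' := ⟨hξV, hξV'⟩
    rw [← TopCat.Presheaf.germ_res_apply X.presheaf (homOfLE (inf_le_left : V ⊓ V' ≤ V)) ξ hmem c,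
      ← TopCat.Presheaf.germ_res_apply G.presheaf (homOfLE (inf_le_right : V ⊓ V' ≤ V')) ξ hmem r,
      ← QCohLib.germ_smul]
    rw [hsm _ _ ?_, map_zero]
    rw [← basicOpen_eq_bot_iff, ← Scheme.preimage_basicOpen]
    refine Opens.ext (Set.eq_empty_iff_forall_notMem.mpr fun w hw => ?_)
    have hb := (hgen w).mem_open (X.basicOpen _).2 hw
    have := (X.mem_basicOpen _ ξ hmem).mp hb
    rw [TopCat.Presheaf.germ_res_apply] at this
    exact ha this
  · intro r hr _ F _ _ ⟨n₀, hn⟩
    obtain ⟨r, rfl⟩ := Nat.exists_eq_succ_of_ne_zero (Nat.one_le_iff_ne_zero.mp hr)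
    refine ⟨n₀, fun n hn' p hp => ?_⟩
    refine subsingleton_HH_of_retract (tMap (biproduct.ι (fun _ : Fin (r + 1) => F) 0) (CohB1.tensorPow L n))
      (tMap (biproduct.π (fun _ : Fin (r + 1) => F) 0) (CohB1.tensorPow L n)) ?_ (hn n hn' p hp)
    exact tMap_retract (isInvertible_tensorPow hL n) (biproduct.ι_π_self _ _)
  intro K k hK _ hkb
  have hC := isCoh_cokernel k hK.1 hG
  haveI := hC.1
  let A := annIdeal (cokernel k) hC.2
  let B := A.comap g
  have h0 := comp_cokernel_eq_zero g hC (cokernel.π k)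
  haveI : Mono (ClSub.idealModι B) := inferInstanceAs (Mono (kernel.ι _))
  let k₀ : (Coh.push g).obj (ClSub.idealMod B) ⟶ G := (Scheme.Modules.pushforward g).map (ClSub.idealModι B)
  haveI : Mono k₀ := by
    rw [mono_iff_app_injective]
    exact fun V => (mono_iff_app_injective (ClSub.idealModι B)).mp inferInstance _
  have hK' : Coh.IsCoh ((Coh.push g).obj (ClSub.idealMod B)) := QCohLib.isCoh_pushforward g (isCoh_idealMod B)
  let k' := Abelian.monoLift k k₀ h0
  have hk' : k' ≫ k = k₀ := Abelian.monoLift_comp _ _ _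
  haveI : Mono k' := mono_of_mono_fac hk'
  refine ⟨_, k', hK', inferInstance, ⟨(mono_iff_stalk_injective k').mp inferInstance ξ, fun a => ?_⟩, ?_⟩
  · obtain ⟨V, hξV, r, hr⟩ := TopCat.Presheaf.exists_germ_eq G.presheaf (stalkHom k ξ a)
    have hξC : ξ ∉ CohB1.support (cokernel k) := notMem_support_cokernel _ _ hkb.2
    obtain ⟨U, hU, hξU, hUV⟩ := exists_isAffineOpen_mem_and_subset (X := X) (x := ξ)
      (U := V ⊓ ⟨(CohB1.support (cokernel k))ᶜ, (isClosed_support hC.2).isOpen_compl⟩) ⟨hξV, hξC⟩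
    have hA : A.ideal ⟨U, hU⟩ = ⊤ := by
      rw [eq_top_iff]
      intro c _
      show c ∈ Module.annihilator Γ(X, U) Γ(cokernel k, U)
      rw [Module.mem_annihilator]
      intro m
      refine QCohLib.section_ext _ _ fun z hz => ?_
      have hsub : Subsingleton ((cokernel k).presheaf.stalk z) := not_not.mp (hUV hz).2
      exact hsub.elim _ _
    let W' : W.affineOpens := ⟨g ⁻¹ᵁ U, hU.preimage g⟩
    have hB : B.ideal W' = ⊤ := by
      rw [IdealComap.ideal_comap A g W' ⟨U, hU⟩ le_rfl, hA, Ideal.map_top]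
    obtain ⟨m, hm⟩ := ConormalSection.exists_idealSect_eq B W'
      (G.presheaf.map (homOfLE ((show U ≤ _ from hUV).trans inf_le_left : U ≤ V)).op r) (hB ▸ Submodule.mem_top)
    refine ⟨((Coh.push g).obj (ClSub.idealMod B)).presheaf.germ U ξ hξU m, hkb.1 ?_⟩
    rw [← stalkHom_comp, hk', ← hr, stalkHom_germ]
    exact (congrArg (G.presheaf.germ U ξ hξU) hm).trans (TopCat.Presheaf.germ_res_apply G.presheaf _ ξ hξU r)
  · obtain ⟨n₀, hn⟩ := exists_vanishing_ample (g ≫ f) hamp (ClSub.idealMod B) (isCoh_idealMod B)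
    refine ⟨n₀, fun n hn' p hp => ?_⟩
    obtain ⟨e⟩ := nonempty_push_pow g (ClSub.idealMod B) hL n
    have hq := (isCoh_tensorMod (isCoh_idealMod B) (isInvertible_tensorPow (isInvertible_pullback g hL) n)).1
    obtain ⟨b⟩ := CohVanish.nonempty_HH_push_equiv g
      (CohB1.tensorMod (ClSub.idealMod B) (CohB1.tensorPow ((Scheme.Modules.pullback g).obj L) n)) p
    exact subsingleton_HH_of_retract e.hom e.inv e.hom_inv_id
      (@Function.Injective.subsingleton _ _ _ b.symm.injective (hn n hn' p hp))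

/-- **Descent of ampleness.** -/
theorem isAmple_of_cover {R : Type u} [CommRing R] [IsNoetherianRing R] (f : X ⟶ Spec (CommRingCat.of R)) [IsProper f]
    {L : X.Modules} (hL : PicF.IsInvertible L)
    (h : ∀ (Z : Scheme.{u}) (i : Z ⟶ X) [IsClosedImmersion i] [IsIntegral Z],
      ∃ (W : Scheme.{u}) (g : W ⟶ X) (_ : IsFinite g) (_ : IsIntegral W),
        Set.range g = Set.range i ∧ CohB1.IsAmple ((Scheme.Modules.pullback g).obj L)) :
    CohB1.IsAmple L := by
  haveI : CompactSpace X := QuasiCompact.compactSpace_of_compactSpace f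
  haveI : IsLocallyNoetherian X := LocallyOfFiniteType.isLocallyNoetherian f
  haveI : IsNoetherian X := ⟨⟩
  refine isAmple_of_vanishing hL fun J => ?_
  obtain ⟨n₀, hn⟩ := vanishes_of_cover f hL Set.univ (fun Z i _ _ _ => h Z i) _ (isCoh_idealMod J) (Set.subset_univ _)
  exact ⟨n₀, fun n hn' => hn n hn' 1 one_pos⟩

end Groth.Agent.AmpleDescent
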