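import Groth.Agent.CurveDeg.Linear
import Groth.Agent.AmpleDescent.Descent
import Mathlib.Analysis.Polynomial.Basic

/-!
# Sections of powers of a module that is ample on the proper closed subschemes
-/

universe u

open CategoryTheory CategoryTheory.Limits AlgebraicGeometry TopologicalSpace Opposite

set_option backward.isDefEq.respectTransparency false
set_option maxHeartbeats 1600000

namespace Groth.Agent.AmpleDescent

open InvBasic ProjUniv Groth.Agent.InvPow Groth.Agent.HilbPoly Groth.Agent.CohFinite Groth.Agent.CechCmp Groth.Agent.QCohLib Groth.Agent.CurveDeg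

variable {X : Scheme.{u}} (k : Type u) [Field k] [X.Over (Spec (CommRingCat.of k))]
  [IsProper (X ↘ Spec (CommRingCat.of k))]

include k

/-- Vanishing of the quotient in two consecutive degrees gives equal dimensions. -/
theorem hdim_eq_of_quotient_vanishes {S : ShortComplex X.Modules} (hS : S.ShortExact) (q : ℕ)
    (h₀ : Subsingleton (Coh.HH X S.X₃ q)) (h₁ : Subsingleton (Coh.HH X S.X₃ (q + 1))) :
    hdim' k S.X₁ (q + 1) = hdim' k S.X₂ (q + 1) := by
  let φ := Coh.toGlobal (X ↘ Spec (CommRingCat.of k))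
  let T := modSES φ S hS
  let f := mapHMod T.f ⊤ (q + 1)
  have hd : ∀ M : X.Modules, hdim' k M (q + 1) = Module.finrank k (HMod (modRSh φ M) ⊤ (q + 1)) := fun M => by
    unfold hdim' HilbPoly.hdim
    rw [(hhEquiv M (q + 1)).finrank_eq]
  have hsub₁ : Subsingleton (HMod T.X₃ ⊤ (q + 1)) := (hhEquiv (A := k) S.X₃ (q + 1)).symm.injective.subsingleton
  have hsub₀ : Subsingleton (HMod T.X₃ ⊤ q) := (hhEquiv (A := k) S.X₃ q).symm.injective.subsingleton
  have hf : Function.Surjective f := fun x =>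
    (CohVanish.eMap_g_eq_zero_iff (S := T.sc) T.shortExact ⊤ (q + 1) x).1 (hsub₁.elim _ _)
  have hinj : Function.Injective f := by
    rw [injective_iff_map_eq_zero]
    intro x hx
    obtain ⟨y, rfl⟩ := (CohVanish.eMap_f_eq_zero_iff (S := T.sc) T.shortExact ⊤ q x).1 hx
    exact (congrArg _ (hsub₀.elim y 0)).trans (map_zero _)
  rw [hd, hd]
  exact congrArg Nat.cast (LinearEquiv.ofBijective f ⟨hinj, hf⟩).finrank_eq

variable [IsIntegral X] {L : X.Modules} (hL : PicF.IsInvertible L)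
  (hV : ∀ N : X.Modules, Coh.IsCoh N → CohB1.support N ≠ Set.univ → Vanishes L N)

include hL hV

/-- Above degree one the cohomology of the powers is eventually constant. -/
theorem exists_stable : ∃ n₁ : ℕ, ∀ n, n₁ ≤ n → ∀ p, 2 ≤ p →
    hdim' k (CohB1.tensorPow L (n + 1)) p = hdim' k (CohB1.tensorPow L n) p := by
  haveI := isNoetherian_of_proper (X := X) k
  obtain ⟨U, hU, ℓ, hℓ⟩ := exists_isBasis hL (genericPoint X)
  have hO : Coh.IsCoh (Coh.structureModule X) := isCoh_of_isInvertible (HilbPoly.isInvertible_structureModule X)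
  have hinj : ∀ W : X.Opens, Function.Injective (res (Coh.structureModule X) (inf_le_left : W ⊓ U ≤ W)) := by
    intro W
    by_cases hW : (W : Set X).Nonempty
    · haveI : Nonempty W := hW.to_subtype
      haveI : Nonempty (W ⊓ U : X.Opens) :=
        ⟨⟨genericPoint X, (genericPoint_spec X).mem_open_set_iff W.2 |>.mpr (by simpa using hW), hU⟩⟩
      exact map_injective_of_isIntegral X (homOfLE (inf_le_left : W ⊓ U ≤ W))
    · have : W = ⊥ := TopologicalSpace.Opens.ext (Set.not_nonempty_iff_eq_empty.mp hW)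
      subst this
      intro a b _
      exact Subsingleton.elim (α := Γ(X, (⊥ : X.Opens))) _ _
  obtain ⟨K, f₁, f₂, hK, _, _, hd₁, hd₂⟩ := exists_roof_tensor hO hL hℓ hinj
  have hne : ∀ {C : X.Modules}, Disjoint (CohB1.support C) U → CohB1.support C ≠ Set.univ := fun h e =>
    Set.disjoint_left.mp h (e ▸ Set.mem_univ (genericPoint X)) hU
  have hO2 := isCoh_tensorMod hO hL
  obtain ⟨a, ha⟩ := hV _ (isCoh_cokernel f₁ hK.1 hO) (hne hd₁)
  obtain ⟨b, hb⟩ := hV _ (isCoh_cokernel f₂ hK.1 hO2) (hne hd₂)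
  refine ⟨a + b, fun n hn p hp => ?_⟩
  obtain ⟨q, rfl⟩ : ∃ q, p = q + 1 := ⟨p - 1, by omega⟩
  have hE := isInvertible_tensorPow hL n
  have e₁ := hdim_eq_of_quotient_vanishes k (S := tSC _ hE) (shortExact_tSC (CohFinite.shortExact_cokernel f₁) hE) q
    (ha n (by omega) q (by omega)) (ha n (by omega) (q + 1) (by omega))
  have e₂ := hdim_eq_of_quotient_vanishes k (S := tSC _ hE) (shortExact_tSC (CohFinite.shortExact_cokernel f₂) hE) q
    (hb n (by omega) q (by omega)) (hb n (by omega) (q + 1) (by omega))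
  obtain ⟨c⟩ := ProjTwist.nonempty_tensorMod_comm (Coh.structureModule X) (CohB1.tensorPow L n)
  have u₁ := hdim_congr k (c ≪≫ SecTwist.unitorR (CohB1.tensorPow L n)) (q + 1)
  obtain ⟨one⟩ := nonempty_pow_one_iso hL
  obtain ⟨add⟩ := nonempty_pow_add_iso hL 1 n
  have u₂ := hdim_congr k ((ProjTwist.nonempty_tensorMod_iso (Iso.refl (CohB1.tensorPow L 1))
    (Iso.refl (CohB1.tensorPow L n))).some ≪≫ add ≪≫ eqToIso (by rw [Nat.add_comm])) (q + 1) (M' := CohB1.tensorPow L (n + 1))
  exact u₂.symm.trans (e₂.symm.trans (e₁.trans u₁))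

/-- A power with a non-zero section. -/
theorem exists_section {p : Polynomial ℚ} (hp : ∀ m : ℕ, (Curv2.euler k X (CohB1.tensorPow L m) : ℚ) = p.eval (m : ℚ))
    (htop : Filter.Tendsto (fun m : ℕ => p.eval (m : ℚ)) Filter.atTop Filter.atTop) :
    ∃ n : ℕ, 0 < n ∧ ∃ σ : Γ(CohB1.tensorPow L n, ⊤), σ ≠ 0 := by
  haveI := isNoetherian_of_proper (X := X) k
  obtain ⟨n₁, hn₁⟩ := exists_stable k hL hV
  obtain ⟨B, hB⟩ := HilbPoly.exists_bound k X
  have hc : ∀ n, n₁ ≤ n → ∀ q, 2 ≤ q → hdim' k (CohB1.tensorPow L n) q = hdim' k (CohB1.tensorPow L n₁) q := by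
    intro n hn q hq
    induction n, hn using Nat.le_induction with
    | base => rfl
    | succ n hn ih => rw [hn₁ n hn q hq, ih]
  let c : ℤ := ∑ i ∈ Finset.range B, (-1 : ℤ) ^ (i + 2) * hdim' k (CohB1.tensorPow L n₁) (i + 2)
  obtain ⟨n, hn⟩ := Filter.eventually_atTop.mp
    ((Filter.tendsto_atTop.mp htop ((c : ℚ) + 1)).and (Filter.eventually_ge_atTop (n₁ + 1)))
  obtain ⟨hbig, hge⟩ := hn n le_rfl
  refine ⟨n, by omega, ?_⟩
  have hco := isCoh_of_isInvertible (isInvertible_tensorPow hL n)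
  have he : Curv2.euler k X (CohB1.tensorPow L n) =
      hdim' k (CohB1.tensorPow L n) 0 - hdim' k (CohB1.tensorPow L n) 1 + c := by
    rw [euler_eq_sum (N := B + 2) fun i hi => hB _ hco.1 i (by omega), Finset.sum_range_succ', Finset.sum_range_succ']
    simp only [zero_add, pow_zero, one_mul, pow_one]
    rw [Finset.sum_congr rfl fun i _ => show (-1 : ℤ) ^ (i + 1 + 1) * HilbPoly.hdim k X (CohB1.tensorPow L n) (i + 1 + 1) =
      (-1 : ℤ) ^ (i + 2) * hdim' k (CohB1.tensorPow L n₁) (i + 2) by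
        rw [← hc n (by omega) (i + 2) (by omega)]]
    simp only [c, hdim']
    ring
  have h0 : 0 < HilbPoly.hdim k X (CohB1.tensorPow L n) 0 := by
    have h1 : (c : ℚ) + 1 ≤ (Curv2.euler k X (CohB1.tensorPow L n) : ℚ) := (hp n).symm ▸ hbig
    have h2 : c + 1 ≤ Curv2.euler k X (CohB1.tensorPow L n) := by exact_mod_cast h1
    have h3 : 0 ≤ hdim' k (CohB1.tensorPow L n) 1 := hdim_nonneg k _ 1
    simp only [hdim'] at he h3
    omega
  simp only [HilbPoly.hdim, Nat.cast_pos] at h0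
  have := finite_HH (k := k) hco 0
  obtain ⟨a, ha⟩ := (Module.finrank_pos_iff_exists_ne_zero (R := k)).mp h0
  let E : Coh.HH X (CohB1.tensorPow L n) 0 ≃+ Γ(CohB1.tensorPow L n, ⊤) :=
    (CohVanish.hEquiv (X := CohVanish.sp X) (Coh.toAb (CohB1.tensorPow L n)) 0).trans (CohVanish.eu0 ⊤ _)
  exact ⟨E a, fun h => ha (E.injective (h.trans (map_zero E).symm))⟩

omit hL hV in
/-- A section vanishing at a closed point dies in the skyscraper at that point. -/
theorem mulSection_comp_point {M : X.Modules} (hM : PicF.IsInvertible M) (σ : Γ(M, ⊤))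
    {x : X} (hxc : IsClosed ({x} : Set X)) (hx : x ∉ genOpen hM σ) :
    mulSection (Coh.structureModule X) σ ≫
      tMap (cokernel.π (ClSub.idealModι (Scheme.IdealSheafData.vanishingIdeal (⟨{x}, hxc⟩ : Closeds X)))) M = 0 := by
  let O := Coh.structureModule X
  let Z : Closeds X := ⟨{x}, hxc⟩
  let J := Scheme.IdealSheafData.vanishingIdeal Z
  let S' := ShortComplex.mk (ClSub.idealModι J) (cokernel.π _) (cokernel.condition _)
  refine Scheme.Modules.hom_ext _ _ fun W => AddCommGrpCat.ext fun (c : Γ(O, W)) => ?_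
  refine QCohLib.section_ext _ _ fun z hz => ?_
  show (CohB1.tensorMod S'.X₃ M).presheaf.germ W z hz ((tMap S'.g M).app W ((mulSection O σ).app W c)) =
    (CohB1.tensorMod S'.X₃ M).presheaf.germ W z hz 0
  rw [map_zero, mulSection_app, tMap_tmul]
  by_cases hzx : z = x
  · subst hzx
    obtain ⟨V₀, hV₀, β₀, hβ₀⟩ := exists_isBasis hM z
    obtain ⟨V, hV, hzV, hVle⟩ := exists_isAffineOpen_mem_and_subset (X := X) (x := z) (U := W ⊓ V₀) ⟨hz, hV₀⟩
    have hb := isBasis_res hβ₀ ((show V ≤ W ⊓ V₀ from hVle).trans inf_le_right)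
    obtain ⟨a, ha⟩ := exists_coef hb (gres M σ V)
    have hnu : ¬ IsUnit (X.presheaf.germ V z hzV a) := fun hu =>
      hx ((genOpen_inf_eq_basicOpen hM hb ha).ge ((X.mem_basicOpen a z hzV).mpr hu)).1
    rw [← TopCat.Presheaf.germ_res_apply (CohB1.tensorMod S'.X₃ M).presheaf
      (homOfLE ((show V ≤ W ⊓ V₀ from hVle).trans inf_le_left)) z hzV]
    refine (congrArg _ ((HilbPoly.res_tmul S'.X₃ M ((show V ≤ W ⊓ V₀ from hVle).trans inf_le_left) _ _).trans ?_)).trans (map_zero _)
    rw [res_gres, ha, ProjCoh.tmul_smul_right, ProjCoh.tmul_smul_left]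
    refine Eq.trans ?_ (ProjCoh.tmul_zero_left S'.X₃ M V (res M ((show V ≤ W ⊓ V₀ from hVle).trans inf_le_right) β₀))
    rw [← ProjCoh.tmul_smul_left]
    congr 1
    have hJ : ∀ r : Γ(X, V), ¬ IsUnit (X.presheaf.germ V z hzV r) → r ∈ J.ideal ⟨V, hV⟩ := by
      intro r hr
      show r ∈ PrimeSpectrum.vanishingIdeal (hV.fromSpec ⁻¹' (Z : Set X))
      rw [PrimeSpectrum.mem_vanishingIdeal]
      intro q hq
      by_contra hrq
      refine hr ((X.mem_basicOpen r z hzV).mp ?_)
      have : hV.fromSpec q ∈ X.basicOpen r := by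
        rw [← hV.fromSpec_image_basicOpen]
        exact ⟨q, hrq, rfl⟩
      rwa [show hV.fromSpec q = z from hq] at this
    let c' : Γ(O, V) := res O ((show V ≤ W ⊓ V₀ from hVle).trans inf_le_left) c
    obtain ⟨j, hj⟩ := ConormalSection.exists_idealSect_eq J ⟨V, hV⟩ (a * (show Γ(X, V) from c'))
      (Ideal.mul_mem_right _ _ (hJ a hnu))
    refine Eq.trans ?_ ((congrArg (fun q => q.app V j) S'.zero).trans rfl)
    show a • res S'.X₃ _ (S'.g.app W c) = S'.g.app V (S'.f.app V j)
    rw [show (S'.f.app V j : Γ(O, V)) = a • c' from hj, Scheme.Modules.Hom.app_smul]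
    exact congrArg (a • ·) (QCohLib.app_map S'.g _ c).symm
  · have hsub : Subsingleton ((CohB1.tensorMod S'.X₃ M).presheaf.stalk z) := by
      by_contra hns
      exact hzx (((support_tensorMod _ hM).le.trans (support_cokernel_idealModι Z)) hns)
    exact hsub.elim _ _

omit hL hV in
/-- Lifting the unit of the skyscraper gives a section generating at the point. -/
theorem exists_gen_of_lift {M E : X.Modules} (hM : PicF.IsInvertible M) (hE : PicF.IsInvertible E)
    {x : X} (hxc : IsClosed ({x} : Set X))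
    (hsurj : Function.Surjective ((tMap (tMap (cokernel.π (ClSub.idealModι
      (Scheme.IdealSheafData.vanishingIdeal (⟨{x}, hxc⟩ : Closeds X)))) M) E).app ⊤)) :
    ∃ t : Γ(CohB1.tensorMod (CohB1.tensorMod (Coh.structureModule X) M) E, ⊤),
      x ∈ genOpen (isInvertible_tensorMod (isInvertible_tensorMod (HilbPoly.isInvertible_structureModule X) hM) hE) t := by
  classical
  haveI := isNoetherian_of_proper (X := X) k
  let O := Coh.structureModule X
  let Z : Closeds X := ⟨{x}, hxc⟩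
  let J := Scheme.IdealSheafData.vanishingIdeal Z
  haveI : Mono (ClSub.idealModι J) := inferInstanceAs (Mono (kernel.ι _))
  let S' := ShortComplex.mk (ClSub.idealModι J) (cokernel.π _) (cokernel.condition _)
  have hS' : S'.ShortExact := { exact := ShortComplex.exact_of_g_is_cokernel _ (cokernelIsCokernel _) }
  let ε : CohB1.tensorMod O M ⟶ CohB1.tensorMod S'.X₃ M := tMap S'.g M
  -- the element to lift
  obtain ⟨V₀, hxV₀, β₀, hβ₀⟩ := exists_isBasis hM x
  obtain ⟨V₁, hxV₁, γ₀, hγ₀⟩ := exists_isBasis hE x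
  obtain ⟨V, hV', hxV, hVle⟩ := exists_isAffineOpen_mem_and_subset (X := X) (x := x) (U := V₀ ⊓ V₁) ⟨hxV₀, hxV₁⟩
  let β : Γ(M, V) := res M ((show V ≤ V₀ ⊓ V₁ from hVle).trans inf_le_left) β₀
  let γ : Γ(E, V) := res E ((show V ≤ V₀ ⊓ V₁ from hVle).trans inf_le_right) γ₀
  have hβ : IsBasis M β := isBasis_res hβ₀ _
  have hγ : IsBasis E γ := isBasis_res hγ₀ _
  let q : Γ(CohB1.tensorMod (CohB1.tensorMod S'.X₃ M) E, V) := (tMap ε E).app V
    (SecTwist.tmul (CohB1.tensorMod O M) E V (SecTwist.tmul O M V (oneSec X V) β) γ)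
  let C : X.Opens := ⟨({x} : Set X)ᶜ, hxc.isOpen_compl⟩
  let 𝒱 : ULift.{u} Bool → X.Opens := fun b => if b.down then V else C
  have hsuppT : CohB1.support (CohB1.tensorMod (CohB1.tensorMod S'.X₃ M) E) ⊆ ({x} : Set X) :=
    (support_tensorMod _ hE).le.trans ((support_tensorMod _ hM).le.trans (support_cokernel_idealModι Z))
  have hzero : ∀ (W : X.Opens) (hW : W ≤ V), W ≤ C →
      res (CohB1.tensorMod (CohB1.tensorMod S'.X₃ M) E) hW q = 0 := fun W hW hWC =>
    QCohLib.section_ext _ _ fun z hz => by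
      have hsub : Subsingleton ((CohB1.tensorMod (CohB1.tensorMod S'.X₃ M) E).presheaf.stalk z) := by
        by_contra hns
        exact hWC hz (hsuppT hns)
      exact hsub.elim _ _
  obtain ⟨g, hg⟩ := InvPow.exists_glue_sections (CohB1.tensorMod (CohB1.tensorMod S'.X₃ M) E) 𝒱
    (fun z => if hzx : z = x then ⟨⟨true⟩, by simpa [𝒱, hzx] using hxV⟩ else ⟨⟨false⟩, by simpa [𝒱, C] using hzx⟩)
    (fun b => match b with | ⟨true⟩ => q | ⟨false⟩ => 0) fun i j => by
      rcases i with ⟨_ | _⟩ <;> rcases j with ⟨_ | _⟩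
      · rfl
      · exact (map_zero _).trans (hzero _ inf_le_right inf_le_left).symm
      · exact (hzero _ inf_le_left inf_le_right).trans (map_zero _).symm
      · rfl
  obtain ⟨t, htg⟩ := hsurj g
  let T := tSC (tSC S' hM) hE
  have hT : T.ShortExact := shortExact_tSC (shortExact_tSC hS' hM) hE
  let e : Γ(CohB1.tensorMod (CohB1.tensorMod O M) E, V) := SecTwist.tmul (CohB1.tensorMod O M) E V (SecTwist.tmul O M V (oneSec X V) β) γ
  have hdv : T.g.app V (gres (CohB1.tensorMod (CohB1.tensorMod O M) E) t V - e) = 0 := by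
    show (tMap ε E).app V (_ - _) = 0
    rw [map_sub, sub_eq_zero]
    refine ((QCohLib.app_map (tMap ε E) le_top t).trans ?_)
    rw [htg]
    exact hg ⟨true⟩
  obtain ⟨c, hc⟩ := (QCohLib.sections_exact_of_shortExact hT V).2 _ hdv
  obtain ⟨c₁, rfl⟩ := (tmul_bij (CohB1.tensorMod (ClSub.idealMod J) M) hγ (le_refl V)).2 c
  obtain ⟨j, rfl⟩ := (tmul_bij (ClSub.idealMod J) hβ (le_refl V)).2 c₁
  have hbas : IsBasis (CohB1.tensorMod (CohB1.tensorMod O M) E) e :=
    isBasis_tmul (isBasis_tmul (isBasis_oneSec V) hβ) hγ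
  have ht' : gres (CohB1.tensorMod (CohB1.tensorMod O M) E) t V = (1 + OmegaSh.idealSect J V j) • e := by
    have e2 : T.f.app V (SecTwist.tmul (CohB1.tensorMod (ClSub.idealMod J) M) E V
        (SecTwist.tmul (ClSub.idealMod J) M V j (res M (le_refl V) β)) (res E (le_refl V) γ)) =
        OmegaSh.idealSect J V j • e := by
      refine (tMap_tmul (tMap (ClSub.idealModι J) M) E V _ _).trans ?_
      rw [tMap_tmul, show res M (le_refl V) β = β from QCohLib.map_self _ _ _,
        show res E (le_refl V) γ = γ from QCohLib.map_self _ _ _]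
      show SecTwist.tmul _ E V (SecTwist.tmul O M V (show Γ(O, V) from OmegaSh.idealSect J V j) β) γ = _
      rw [show (show Γ(O, V) from OmegaSh.idealSect J V j) = OmegaSh.idealSect J V j • oneSec X V from
        (smul_oneSec _).symm, ProjCoh.tmul_smul_left, ProjCoh.tmul_smul_left]
    have h3 := hc.symm.trans e2
    rw [add_smul, one_smul]
    exact sub_eq_iff_eq_add'.mp h3
  refine ⟨t, ?_⟩
  refine ((genOpen_inf_eq_basicOpen _ hbas ht').ge ((X.mem_basicOpen _ x hxV).mpr ?_)).1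
  rw [map_add, map_one]
  by_contra hnu
  have hmem : ¬ IsUnit (X.presheaf.germ V x hxV (OmegaSh.idealSect J V j)) := by
    have hs : x ∈ J.support := by
      rw [show J.support = Z from rfl]
      exact rfl
    have hzl := (Scheme.IdealSheafData.mem_support_iff_of_mem (U := ⟨V, hV'⟩) hxV).mp hs
    rw [Scheme.mem_zeroLocus_iff] at hzl
    exact fun hu => hzl _ (ConormalSection.idealSect_mem J ⟨V, hV'⟩ j) ((X.mem_basicOpen _ x hxV).mpr hu)
  have h5 := Submodule.sub_mem _ ((IsLocalRing.mem_maximalIdeal _).mpr hnu) ((IsLocalRing.mem_maximalIdeal _).mpr hmem)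
  rw [add_sub_cancel_right] at h5
  exact (IsLocalRing.mem_maximalIdeal _).mp h5 isUnit_one

omit hL hV in
/-- A short exact sequence twisted by a sequence of modules along which `h¹` can only drop. -/
theorem exists_surjective_stable {S : ShortComplex X.Modules} (hS : S.ShortExact) (h₁ : Coh.IsCoh S.X₁)
    (h₂ : Coh.IsCoh S.X₂) (G : ℕ → X.Modules) (hG : ∀ m, PicF.IsInvertible (G m)) (N : ℕ)
    (hvan : ∀ m, N ≤ m → Subsingleton (Coh.HH X (CohB1.tensorMod S.X₃ (G m)) 1))
    (i₁ : ∀ m, Nonempty (CohB1.tensorMod S.X₁ (G m) ≅ G m))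
    (i₂ : ∀ m, Nonempty (CohB1.tensorMod S.X₂ (G m) ≅ G (m + 1))) :
    ∃ m, N ≤ m ∧ Function.Surjective ((tMap S.g (G m)).app ⊤) := by
  haveI := isNoetherian_of_proper (X := X) k
  have hstep := fun m (hm : N ≤ m) => hdim_one_le k (S := tSC S (hG m)) (shortExact_tSC hS (hG m))
    (isCoh_tensorMod h₁ (hG m)) (isCoh_tensorMod h₂ (hG m)) (hvan m hm)
  have hd' : ∀ m, hdim' k (tSC S (hG m)).X₁ 1 = hdim' k (G m) 1 ∧ hdim' k (tSC S (hG m)).X₂ 1 = hdim' k (G (m + 1)) 1 :=
    fun m => ⟨hdim_congr k (i₁ m).some 1, hdim_congr k (i₂ m).some 1⟩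
  obtain ⟨m, hm, hmeq⟩ : ∃ m, N ≤ m ∧ hdim' k (G (m + 1)) 1 = hdim' k (G m) 1 := by
    by_contra hc
    push Not at hc
    have hlt : ∀ j : ℕ, hdim' k (G (N + j)) 1 ≤ hdim' k (G N) 1 - j := fun j => by
      induction j with
      | zero => simp
      | succ j ih =>
        have h1 := (hstep (N + j) (Nat.le_add_right _ _)).1
        change hdim' k _ 1 ≤ hdim' k _ 1 at h1
        rw [(hd' _).1, (hd' _).2] at h1
        have h2 := lt_of_le_of_ne h1 (hc _ (Nat.le_add_right _ _))
        rw [← Nat.add_assoc]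
        push_cast
        omega
    have h3 := hlt ((hdim' k (G N) 1).toNat + 1)
    have h4 : 0 ≤ hdim' k (G (N + ((hdim' k (G N) 1).toNat + 1))) 1 := hdim_nonneg k _ 1
    omega
  exact ⟨m, hm, (hstep m hm).2 (((hd' m).2.trans hmeq).trans (hd' m).1.symm)⟩

omit [IsIntegral X] hL hV in
/-- An epimorphism with acyclic twisted kernel is surjective on twisted global sections. -/
theorem surjective_tMap_of_epi {P Q E : X.Modules} (ψ : P ⟶ Q) [Epi ψ] (hE : PicF.IsInvertible E)
    (h : Subsingleton (Coh.HH X (CohB1.tensorMod (kernel ψ) E) 1)) : Function.Surjective ((tMap ψ E).app ⊤) :=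
  CohVanish.app_top_surjective_of_shortExact (S := tSC (ShortComplex.mk (kernel.ι ψ) ψ (kernel.condition ψ)) hE)
    (shortExact_tSC (CohVanish.shortExact_of_epi ψ) hE) h

omit hL in
/-- Off the non-vanishing locus of a section some power has a section generating at a given closed point. -/
theorem exists_gen_at {n : ℕ} (hn : 0 < n) {M : X.Modules} (hM : PicF.IsInvertible M)
    (hMn : ∀ m, Nonempty (CohB1.tensorPow L (n * m) ≅ CohB1.tensorPow M m))
    (σ : Γ(M, ⊤)) (hσ : (genOpen hM σ : Set X).Nonempty) {x : X} (hxc : IsClosed ({x} : Set X))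
    (hx : x ∉ genOpen hM σ) :
    ∃ m : ℕ, ∃ s : Γ(CohB1.tensorPow M (m + 1), ⊤), x ∈ genOpen (isInvertible_tensorPow hM (m + 1)) s := by
  haveI := isNoetherian_of_proper (X := X) k
  let O := Coh.structureModule X
  have hO : Coh.IsCoh O := isCoh_of_isInvertible (HilbPoly.isInvertible_structureModule X)
  let f := mulSection O σ
  haveI : Mono f := mono_mulSection_invertible (HilbPoly.isInvertible_structureModule X) hM σ hσ
  let Z : Closeds X := ⟨{x}, hxc⟩
  let J := Scheme.IdealSheafData.vanishingIdeal Z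
  haveI : Mono (ClSub.idealModι J) := inferInstanceAs (Mono (kernel.ι _))
  let S' := ShortComplex.mk (ClSub.idealModι J) (cokernel.π _) (cokernel.condition _)
  have hS' : S'.ShortExact := { exact := ShortComplex.exact_of_g_is_cokernel _ (cokernelIsCokernel _) }
  let ε : CohB1.tensorMod O M ⟶ CohB1.tensorMod S'.X₃ M := tMap S'.g M
  haveI : Epi S'.g := hS'.epi_g
  haveI : Epi ε := epi_tMap S'.g hM
  have hfε : f ≫ ε = 0 := mulSection_comp_point k hM σ hxc hx
  let ψ : cokernel f ⟶ CohB1.tensorMod S'.X₃ M := cokernel.desc f ε hfε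
  have hψ : cokernel.π f ≫ ψ = ε := cokernel.π_desc _ _ _
  haveI : Epi ψ := epi_of_epi_fac hψ
  have hOM := isCoh_tensorMod hO hM
  have hC := isCoh_cokernel f hO.1 hOM
  have hC0 : Coh.IsCoh S'.X₃ := isCoh_cokernel _ (isCoh_idealMod J).1 hO
  have hC0M := isCoh_tensorMod hC0 hM
  haveI := hC.1
  haveI := hC0M.1
  have hKc : Coh.IsCoh (kernel ψ) := isCoh_of_mono (kernel.ι ψ) hC (QCohLib.isQuasicoherent_kernel ψ)
  have hd := disjoint_support_cokernel_mulSection O hM σ
  have hCne : CohB1.support (cokernel f) ≠ Set.univ := fun e => by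
    obtain ⟨y, hy⟩ := hσ
    exact Set.disjoint_left.mp hd (e ▸ Set.mem_univ y) hy
  have hKne : CohB1.support (kernel ψ) ≠ Set.univ := fun e => hCne (Set.eq_univ_of_univ_subset
    (e ▸ (support_subset_of_mono (kernel.ι ψ))))
  obtain ⟨a, ha⟩ := hV _ hC hCne
  obtain ⟨b, hb⟩ := hV _ hKc hKne
  have hlarge : ∀ m, a + b ≤ m → a + b ≤ n * m := fun m hm => hm.trans (Nat.le_mul_of_pos_left m hn)
  have conv : ∀ (N : X.Modules) (m p : ℕ), Subsingleton (Coh.HH X (CohB1.tensorMod N (CohB1.tensorPow L (n * m))) p) →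
      Subsingleton (Coh.HH X (CohB1.tensorMod N (CohB1.tensorPow M m)) p) := fun N m p h => by
    obtain ⟨e⟩ := hMn m
    obtain ⟨e'⟩ := ProjTwist.nonempty_tensorMod_iso (Iso.refl N) e.symm
    exact subsingleton_HH_of_retract e'.hom e'.inv e'.hom_inv_id h
  let G : ℕ → X.Modules := fun m => CohB1.tensorPow M m
  have hG : ∀ m, PicF.IsInvertible (G m) := fun m => isInvertible_tensorPow hM m
  let S := ShortComplex.mk f (cokernel.π f) (cokernel.condition f)
  have iso₂ : ∀ m, Nonempty (CohB1.tensorMod (CohB1.tensorMod O M) (G m) ≅ G (m + 1)) := fun m => by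
    obtain ⟨add⟩ := nonempty_pow_add_iso hM 1 m
    exact ⟨add ≪≫ eqToIso (by rw [Nat.add_comm])⟩
  obtain ⟨m, hm, hsurj⟩ := exists_surjective_stable k (S := S) (CohFinite.shortExact_cokernel f) hO hOM G hG (a + b)
    (fun m hm => conv _ m 1 (ha _ (le_trans (Nat.le_add_right a b) (hlarge m hm)) 1 one_pos))
    (fun m => by
      obtain ⟨c⟩ := ProjTwist.nonempty_tensorMod_comm O (G m)
      exact ⟨c ≪≫ SecTwist.unitorR (G m)⟩) iso₂
  refine ⟨m, ?_⟩
  have hK1 : Subsingleton (Coh.HH X (CohB1.tensorMod (kernel ψ) (G m)) 1) :=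
    conv (kernel ψ) m 1 (hb _ (le_trans (Nat.le_add_left b a) (hlarge m hm)) 1 one_pos)
  have hsurj2 : Function.Surjective ((tMap ψ (G m)).app ⊤) := surjective_tMap_of_epi k ψ (hG m) hK1
  have hfac : tMap ε (G m) = tMap (cokernel.π f) (G m) ≫ tMap ψ (G m) := by
    rw [← LimSh.tensorModMap_comp, hψ]
  have hsurjε : Function.Surjective ((tMap ε (G m)).app ⊤) := fun g => by
    obtain ⟨g₁, hg₁⟩ := hsurj2 g
    obtain ⟨t, ht⟩ := hsurj g₁
    refine ⟨t, ?_⟩
    rw [hfac]
    exact (congrArg ((tMap ψ (G m)).app ⊤) ht).trans hg₁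
  obtain ⟨t, ht⟩ := exists_gen_of_lift k hM (hG m) hxc hsurjε
  obtain ⟨τ⟩ := iso₂ m
  exact ⟨τ.hom.app ⊤ t, genOpen_le_map' (isInvertible_tensorMod (isInvertible_tensorMod
    (HilbPoly.isInvertible_structureModule X) hM) (hG m)) (hG (m + 1)) τ t ht⟩
where
  genOpen_le_map' {L L' : X.Modules} (hL : PicF.IsInvertible L) (hL' : PicF.IsInvertible L') (e : L ≅ L')
      (s : Γ(L, ⊤)) {y : X} (hy : y ∈ genOpen hL s) : y ∈ genOpen hL' (e.hom.app ⊤ s) := by
    obtain ⟨V, hyV, hV⟩ := exists_nhd_of_gen hL hy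
    refine gen_of_isBasis (U := V) ?_ hyV
    have := InvPow.isBasis_of_iso e hV
    rwa [show e.hom.app V (gres L s V) = gres L' (e.hom.app ⊤ s) V from QCohLib.app_map e.hom le_top s] at this

end Groth.Agent.AmpleDescent
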