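import Groth.Agent.AmpleDescent.NakaiFinite
import Groth.Agent.AmpleDescent.NakaiSection
import Groth.Agent.CurveDeg.Components
import Groth.Agent.HilbPoly.AsympRR
import Groth.Agent.NegVanish.Main
import Groth.Agent.ProjTwist.LocTriv

/-!
# The Nakai criterion
-/

universe u

open CategoryTheory CategoryTheory.Limits AlgebraicGeometry TopologicalSpace Opposite

set_option backward.isDefEq.respectTransparency false
set_option maxHeartbeats 1600000

namespace Groth.Agent.AmpleDescent

open InvBasic ProjUniv Groth.Agent.InvPow Groth.Agent.HilbPoly Groth.Agent.CohFinite Groth.Agent.QCohLib Groth.Agent.CurveDeg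

theorem altSum_card_le {d : ℕ} {p : Polynomial ℚ} (hp : p.natDegree ≤ d) :
    altSum (d := d) (fun n => p.eval ((∑ i, n i : ℕ) : ℚ)) = d.factorial * p.coeff d := by
  rcases hp.lt_or_eq with h | h
  · have hne : (Polynomial.X ^ d : Polynomial ℚ).natDegree = d := Polynomial.natDegree_X_pow d
    have hsum : (p + Polynomial.X ^ d).natDegree = d := by
      rw [Polynomial.natDegree_add_eq_right_of_natDegree_lt (by rwa [hne]), hne]
    have h1 := altSum_card (d := d) hsum
    have h2 := altSum_card (d := d) hne
    simp only [altSum, Polynomial.eval_add, mul_add, Finset.sum_add_distrib, Polynomial.coeff_add] at h1 h2 ⊢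
    rw [h2] at h1
    linarith
  · exact altSum_card h

/-- A family of sections, one generating at each closed point, can be moved to a single power. -/
theorem exists_common_power {X : Scheme.{u}} [CompactSpace X] {M : X.Modules} (hM : PicF.IsInvertible M)
    (h : ∀ x : X, IsClosed ({x} : Set X) → ∃ a : ℕ, 0 < a ∧ ∃ s : Γ(CohB1.tensorPow M a, ⊤),
      x ∈ genOpen (isInvertible_tensorPow hM a) s) :
    ∃ e : ℕ, 0 < e ∧ ∀ x : X, ∃ s : Γ(CohB1.tensorPow M e, ⊤), x ∈ genOpen (isInvertible_tensorPow hM e) s := by
  classical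
  choose a ha s hs using h
  let U : {x : X // IsClosed ({x} : Set X)} → X.Opens := fun x => genOpen (isInvertible_tensorPow hM _) (s x.1 x.2)
  have hcov : (Set.univ : Set X) ⊆ ⋃ i, (U i : Set X) := by
    intro y _
    obtain ⟨x, hx, hxc⟩ := (isClosed_closure (s := ({y} : Set X))).exists_closed_singleton ⟨y, subset_closure rfl⟩
    refine Set.mem_iUnion.mpr ⟨⟨x, hxc⟩, ?_⟩
    exact (specializes_iff_mem_closure.mpr hx).mem_open (U ⟨x, hxc⟩).2 (hs x hxc)
  obtain ⟨T, hT⟩ := isCompact_univ.elim_finite_subcover (fun i => (U i : Set X)) (fun i => (U i).2) hcov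
  refine ⟨∏ i ∈ T, a i.1 i.2, Finset.prod_pos fun i _ => ha i.1 i.2, fun y => ?_⟩
  obtain ⟨i, hi, hyi⟩ := Set.mem_iUnion₂.mp (hT (Set.mem_univ y))
  rw [← Finset.mul_prod_erase T (fun i => a i.1 i.2) hi]
  refine ⟨spow hM (s i.1 i.2) _, ?_⟩
  rw [genOpen_spow hM _ (Finset.prod_pos fun j _ => ha j.1 j.2)]
  exact hyi

variable {X : Scheme.{u}} (k : Type u) [Field k] [X.Over (Spec (CommRingCat.of k))]
  [IsProper (X ↘ Spec (CommRingCat.of k))]

include k

/-- Euler characteristics of twists of a closed subscheme's structure sheaf. -/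
theorem euler_tensorPows_quot {Y : Scheme.{u}} (j : Y ⟶ X) [IsClosedImmersion j] {L : X.Modules}
    (hL : PicF.IsInvertible L) {d : ℕ} (n : Fin d → ℕ) :
    Curv2.euler k X (Curv2.tensorPows ((Scheme.Modules.pushforward j).obj (Coh.structureModule Y)) d (fun _ => L) n) =
      @Curv2.euler k _ Y ⟨j ≫ (X ↘ Spec (CommRingCat.of k))⟩
        (Curv2.tensorPows (Coh.structureModule Y) d (fun _ => (Scheme.Modules.pullback j).obj L) n) := by
  haveI : (Coh.structureModule Y).IsQuasicoherent := InvBasic.isQuasicoherent_structureModule Y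
  haveI := isQuasicoherent_tensorPows (N := Coh.structureModule Y)
    (L := fun _ : Fin d => (Scheme.Modules.pullback j).obj L) (fun _ => isInvertible_pullback j hL) n
  exact (euler_congr (nonempty_push_tensorPows j (Coh.structureModule Y) (fun _ => hL) n).some).trans
    (euler_push j k _)

/-- An invertible module that is ample on the proper closed integral subschemes and whose top self-intersection
is positive is ample. -/
theorem isAmple_step [IsIntegral X] {L : X.Modules} (hL : PicF.IsInvertible L)
    (hsub : ∀ (Z : Scheme.{u}) (i : Z ⟶ X) [IsClosedImmersion i] [IsIntegral Z], Set.range i ≠ Set.univ →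
      CohB1.IsAmple ((Scheme.Modules.pullback i).obj L))
    {p : Polynomial ℚ} (hp : ∀ m : ℕ, (Curv2.euler k X (CohB1.tensorPow L m) : ℚ) = p.eval (m : ℚ))
    (htop : Filter.Tendsto (fun m : ℕ => p.eval (m : ℚ)) Filter.atTop Filter.atTop) :
    CohB1.IsAmple L := by
  haveI := isNoetherian_of_proper (X := X) k
  have hV : ∀ N : X.Modules, Coh.IsCoh N → CohB1.support N ≠ Set.univ → Vanishes L N := by
    intro N hN hs
    refine vanishes_of_cover (X ↘ Spec (CommRingCat.of k)) hL (CohB1.support N)
      (fun Z i _ _ hi => ⟨Z, i, inferInstance, inferInstance, rfl, ?_⟩) N hN subset_rfl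
    exact hsub Z i fun h => hs (Set.eq_univ_of_univ_subset (h ▸ hi))
  obtain ⟨n, hn, σ, hσ⟩ := exists_section k hL hV hp htop
  let M := CohB1.tensorPow L n
  have hM : PicF.IsInvertible M := isInvertible_tensorPow hL n
  have hMn : ∀ m, Nonempty (CohB1.tensorPow L (n * m) ≅ CohB1.tensorPow M m) := fun m => by
    obtain ⟨e⟩ := nonempty_pow_mul_iso hL n m
    exact ⟨e.symm⟩
  -- a nowhere vanishing section of a positive power forces constant Euler characteristics
  have hne : ∀ (e : ℕ), 0 < e → ∀ t : Γ(CohB1.tensorPow L e, ⊤), genOpen (isInvertible_tensorPow hL e) t ≠ ⊤ := by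
    intro e he t ht
    have hb : IsBasis (CohB1.tensorPow L e) t := isBasis_of_cover fun x _ => by
      obtain ⟨V, hxV, hV'⟩ := exists_nhd_of_gen (isInvertible_tensorPow hL e) (ht.ge trivial : x ∈ genOpen _ t)
      exact ⟨V, le_top, hxV, hV'⟩
    obtain ⟨triv⟩ := ProjTwist.nonempty_structureModule_iso (CohB1.tensorPow L e) t fun W => hb W le_top
    have hconst : ∀ m, Curv2.euler k X (CohB1.tensorPow L (e * m)) = Curv2.euler k X (Coh.structureModule X) := fun m => by
      obtain ⟨a⟩ := nonempty_pow_mul_iso hL e m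
      obtain ⟨b⟩ := nonempty_tensorPow_congr triv.symm m
      obtain ⟨c⟩ := NegVanish.nonempty_tensorPow_structureModule (X := X) m
      exact euler_congr (a.symm ≪≫ b ≪≫ c)
    have h1 : Filter.Tendsto (fun m : ℕ => p.eval ((e * m : ℕ) : ℚ)) Filter.atTop Filter.atTop :=
      htop.comp (Filter.tendsto_id.const_mul_atTop' he)
    have h2 : Filter.Tendsto (fun _ : ℕ => (Curv2.euler k X (Coh.structureModule X) : ℚ)) Filter.atTop Filter.atTop := by
      refine h1.congr fun m => ?_
      rw [← hp, hconst]
    exact Filter.not_tendsto_const_atTop _ _ h2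
  have hσne : (genOpen hM σ : Set X).Nonempty := genOpen_nonempty_of_ne_zero hM hσ
  obtain ⟨e, he, hgen⟩ := exists_common_power hM fun x hxc => by
    by_cases hx : x ∈ genOpen hM σ
    · obtain ⟨s, hs⟩ := exists_gen_pow_one hM σ
      exact ⟨1, one_pos, s, hs.ge hx⟩
    · obtain ⟨m, s, hs⟩ := exists_gen_at k hV hn hM hMn σ hσne hxc hx
      exact ⟨m + 1, Nat.succ_pos m, s, hs⟩
  refine InvPow.isAmple_of_pow hL (Nat.mul_pos hn he) (InvPow.isAmple_of_iso (hMn e).some.symm ?_)
  refine isAmple_of_gen k (isInvertible_tensorPow hM e) (fun Z i _ _ hi => ?_) hgen fun t ht => ?_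
  · obtain ⟨τ'⟩ := nonempty_pullback_pow_iso i hL (n * e)
    exact InvPow.isAmple_of_iso ((Scheme.Modules.pullback i).mapIso (hMn e).some)
      (InvPow.isAmple_of_iso τ'.symm (InvPow.isAmple_pow (hsub Z i hi) (Nat.mul_pos hn he)))
  · refine hne (n * e) (Nat.mul_pos hn he) ((hMn e).some.inv.app ⊤ t) (top_unique (ht.ge.trans ?_))
    exact genOpen_le_map (isInvertible_tensorPow hM e) (isInvertible_tensorPow hL (n * e)) (hMn e).some.symm t

/-- Nakai: positivity on every closed integral subscheme gives ampleness. -/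
theorem isAmple_of_pos {L : X.Modules} (hL : PicF.IsInvertible L)
    (hpos : ∀ (C : Closeds X) [IsIntegral (Scheme.IdealSheafData.vanishingIdeal C).subscheme] (d : ℕ), 0 < d →
      topologicalKrullDim (C : Set X) = d → ∀ p : Polynomial ℚ, p.natDegree ≤ d →
        (∀ m : ℕ, (@Curv2.euler k _ (Scheme.IdealSheafData.vanishingIdeal C).subscheme
          ⟨(Scheme.IdealSheafData.vanishingIdeal C).subschemeι ≫ (X ↘ Spec (CommRingCat.of k))⟩
          (CohB1.tensorPow ((Scheme.Modules.pullback (Scheme.IdealSheafData.vanishingIdeal C).subschemeι).obj L) m) : ℚ) =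
            p.eval (m : ℚ)) → 0 < p.coeff d) :
    CohB1.IsAmple L := by
  haveI := isNoetherian_of_proper (X := X) k
  have key : ∀ C : Closeds X, IsIrreducible (C : Set X) →
      CohB1.IsAmple ((Scheme.Modules.pullback (Scheme.IdealSheafData.vanishingIdeal C).subschemeι).obj L) := by
    haveI : WellFoundedLT (Closeds X) := inferInstance
    intro C
    induction C using WellFoundedLT.induction with
    | _ C ih =>
    intro hirr
    let J := Scheme.IdealSheafData.vanishingIdeal C
    letI : J.subscheme.Over (Spec (CommRingCat.of k)) := ⟨J.subschemeι ≫ (X ↘ (Spec (CommRingCat.of k)))⟩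
    haveI : IsProper (J.subscheme ↘ Spec (CommRingCat.of k)) :=
      inferInstanceAs (IsProper (J.subschemeι ≫ (X ↘ (Spec (CommRingCat.of k)))))
    haveI hI : IsIntegral J.subscheme := CohFinite.isIntegral_vanishingIdeal C.isClosed hirr
    haveI := isNoetherian_of_proper (X := J.subscheme) k
    have hL' := isInvertible_pullback J.subschemeι hL
    have hrange : Set.range J.subschemeι = (C : Set X) := CohFinite.range_vanishingIdeal_subschemeι C.isClosed
    have hd : topologicalKrullDim J.subscheme = topologicalKrullDim (C : Set X) := by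
      rw [dim_source J.subschemeι, hrange]
    obtain ⟨d, hdC⟩ : ∃ d : ℕ, topologicalKrullDim (C : Set X) = d := by
      obtain ⟨ξ, hξ⟩ := QuasiSober.sober hirr C.isClosed
      obtain ⟨d, hd⟩ := exists_dim_closure (k := k) ξ
      exact ⟨d, (congrArg (fun S : Set X => topologicalKrullDim S) hξ.def.symm).trans hd⟩
    rcases Nat.eq_zero_or_pos d with hd0 | hd0
    · exact isAmple_of_dim_le_zero k (by rw [hd, hdC, hd0]; rfl) hL'
    have hO : Coh.IsCoh (Coh.structureModule J.subscheme) := isCoh_of_isInvertible (HilbPoly.isInvertible_structureModule _)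
    have hsupp : topologicalKrullDim (CohB1.support (Coh.structureModule J.subscheme)) ≤ d := by
      rw [support_structureModule]
      exact ((FibreDim.dim_homeo (Homeomorph.Set.univ J.subscheme)).trans (hd.trans hdC)).le
    obtain ⟨p, hpd, hp⟩ := exists_hilbPoly' (k := k) hL' hO hsupp
    have hp' : ∀ m : ℕ, (Curv2.euler k J.subscheme
        (CohB1.tensorPow ((Scheme.Modules.pullback J.subschemeι).obj L) m) : ℚ) = p.eval (m : ℚ) := fun m => by
      rw [← hp m]
      obtain ⟨c⟩ := ProjTwist.nonempty_tensorMod_comm (Coh.structureModule J.subscheme)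
        (CohB1.tensorPow ((Scheme.Modules.pullback J.subschemeι).obj L) m)
      exact congrArg Int.cast (euler_congr ((SecTwist.unitorR _).symm ≪≫ c.symm))
    have hc := hpos C d hd0 hdC p hpd hp'
    have hdeg : p.natDegree = d := le_antisymm hpd (Polynomial.le_natDegree_of_ne_zero hc.ne')
    have htop : Filter.Tendsto (fun m : ℕ => p.eval (m : ℚ)) Filter.atTop Filter.atTop := by
      refine (Polynomial.tendsto_atTop_of_leadingCoeff_nonneg p ?_ ?_).comp tendsto_natCast_atTop_atTop
      · rw [Polynomial.degree_eq_natDegree (fun h => hc.ne' (by rw [h, Polynomial.coeff_zero])), hdeg]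
        exact_mod_cast hd0
      · rw [Polynomial.leadingCoeff, hdeg]
        exact hc.le
    refine isAmple_step k hL' (fun Z i _ _ hi => ?_) hp' htop
    let C' : Closeds X := ⟨Set.range (i ≫ J.subschemeι), (i ≫ J.subschemeι).isClosedEmbedding.isClosed_range⟩
    have hlt : C' < C := by
      refine lt_of_le_of_ne (fun x hx => ?_) fun h => hi (Set.eq_univ_of_forall fun y => ?_)
      · obtain ⟨z, rfl⟩ := hx
        exact hrange.le ⟨i z, rfl⟩
      · have hy : J.subschemeι y ∈ (C' : Set X) := by rw [h, ← hrange]; exact ⟨y, rfl⟩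
        obtain ⟨z, hz⟩ := hy
        exact ⟨z, J.subschemeι.isClosedEmbedding.injective hz⟩
    have hirr' : IsIrreducible (C' : Set X) := by
      show IsIrreducible (Set.range (i ≫ J.subschemeι))
      rw [← Set.image_univ]
      exact (IrreducibleSpace.isIrreducible_univ Z).image _ (i ≫ J.subschemeι).continuous.continuousOn
    obtain ⟨i', hi', hfac⟩ := exists_factor (X ↘ Spec (CommRingCat.of k)) hL (i ≫ J.subschemeι) (Scheme.IdealSheafData.vanishingIdeal C')
      (fun x hx => hx)
    have h := isAmple_pullback_comp (L := L) i' _ (ih C' hlt hirr')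
    rw [hfac] at h
    exact InvPow.isAmple_of_iso ((Scheme.Modules.pullbackComp i J.subschemeι).app L).symm h
  refine isAmple_of_cover (X ↘ Spec (CommRingCat.of k)) hL fun Z i _ _ => ⟨Z, i, inferInstance, inferInstance, rfl, ?_⟩
  let C : Closeds X := ⟨Set.range i, i.isClosedEmbedding.isClosed_range⟩
  have hirr : IsIrreducible (C : Set X) := by
    show IsIrreducible (Set.range i)
    rw [← Set.image_univ]
    exact (IrreducibleSpace.isIrreducible_univ Z).image _ i.continuous.continuousOn
  obtain ⟨i', hi', hfac⟩ := exists_factor (X ↘ Spec (CommRingCat.of k)) hL i (Scheme.IdealSheafData.vanishingIdeal C) (fun x hx => hx)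
  have h := isAmple_pullback_comp (L := L) i' _ (key C hirr)
  rwa [hfac] at h

end Groth.Agent.AmpleDescent
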