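import Groth.Agent.CurveDeg.Components
import Groth.Agent.InvPow.LocusAffine
import Mathlib.AlgebraicGeometry.ZariskisMainTheorem

/-!
# Globally generated and ample on proper closed subschemes implies ample
-/

universe u

open CategoryTheory CategoryTheory.Limits AlgebraicGeometry TopologicalSpace Opposite

set_option backward.isDefEq.respectTransparency false
set_option maxHeartbeats 1600000

namespace Groth.Agent.AmpleDescent

open InvBasic ProjUniv Groth.Agent.InvPow Groth.Agent.CurveDeg

variable {X : Scheme.{u}} (k : Type u) [Field k] [X.Over (Spec (CommRingCat.of k))]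
  [IsProper (X ↘ Spec (CommRingCat.of k))]

/-- Transport of a generating section along an isomorphism. -/
theorem genOpen_le_map {L L' : X.Modules} (hL : PicF.IsInvertible L) (hL' : PicF.IsInvertible L') (e : L ≅ L')
    (s : Γ(L, ⊤)) : genOpen hL s ≤ genOpen hL' (e.hom.app ⊤ s) := by
  intro x hx
  obtain ⟨V, hxV, hV⟩ := exists_nhd_of_gen hL hx
  refine gen_of_isBasis (U := V) ?_ hxV
  have := InvPow.isBasis_of_iso e hV
  rwa [show e.hom.app V (gres L s V) = gres L' (e.hom.app ⊤ s) V from QCohLib.app_map e.hom le_top s] at this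

include k in
/-- An ample module with a nowhere vanishing section lives on a finite scheme. -/
theorem finite_of_isAmple_of_genOpen_eq_top {A : X.Modules} (hA : CohB1.IsAmple A) (σ : Γ(A, ⊤))
    (hσ : genOpen hA.1 σ = ⊤) : Finite X := by
  haveI := isNoetherian_of_proper (X := X) k
  obtain ⟨σ', hσ'⟩ := exists_gen_pow_one hA.1 σ
  have haff : IsAffineOpen (⊤ : X.Opens) :=
    isAffineOpen_genOpen_of_universallyClosed hA (X ↘ Spec (CommRingCat.of k)) one_pos σ' ⊤ (hσ'.trans hσ)
  haveI : IsAffine (⊤ : X.Opens).toScheme := haff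
  haveI : IsAffine X := IsAffine.of_isIso (Scheme.topIso X).inv
  haveI : IsFinite (X ↘ Spec (CommRingCat.of k)) :=
    IsFinite.iff_isProper_and_isAffineHom.mpr ⟨inferInstance, inferInstance⟩
  rw [← Set.finite_univ_iff]
  obtain ⟨y, hy⟩ : ∃ y, ∀ x : X, (X ↘ Spec (CommRingCat.of k)) x = y := by
    rcases isEmpty_or_nonempty X with h | h
    · exact ⟨Classical.arbitrary (PrimeSpectrum k), fun x => h.elim x⟩
    · exact ⟨(X ↘ Spec (CommRingCat.of k)) h.some, fun x => Subsingleton.elim _ _⟩
  rw [show (Set.univ : Set X) = (X ↘ Spec (CommRingCat.of k)) ⁻¹' {y} from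
    (Set.eq_univ_of_forall fun x => hy x).symm]
  exact Scheme.Hom.finite_preimage_singleton _ _

include k in
/-- A globally generated module, ample on the proper integral closed subschemes and non-trivial, is ample. -/
theorem isAmple_of_gen [IsIntegral X] {M : X.Modules} (hM : PicF.IsInvertible M)
    (hsub : ∀ (Z : Scheme.{u}) (i : Z ⟶ X) [IsClosedImmersion i] [IsIntegral Z], Set.range i ≠ Set.univ →
      CohB1.IsAmple ((Scheme.Modules.pullback i).obj M))
    (hgen : ∀ x : X, ∃ s : Γ(M, ⊤), x ∈ genOpen hM s) (hne : ∀ t : Γ(M, ⊤), genOpen hM t ≠ ⊤) :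
    CohB1.IsAmple M := by
  classical
  haveI := isNoetherian_of_proper (X := X) k
  choose s hs using hgen
  obtain ⟨t, ht⟩ := isCompact_univ.elim_finite_subcover (fun x : X => (genOpen hM (s x) : Set X))
    (fun x => (genOpen hM (s x)).2) (fun x _ => Set.mem_iUnion.mpr ⟨x, hs x⟩)
  have htne : t.Nonempty := by
    obtain ⟨x, hx, -⟩ := Set.mem_iUnion₂.mp (ht (Set.mem_univ (Nonempty.some (inferInstance : Nonempty X))))
    exact ⟨x, hx⟩
  obtain ⟨n, hn⟩ := Nat.exists_eq_succ_of_ne_zero htne.card_pos.ne'
  let e : Fin (n + 1) ≃ t := (finCongr hn.symm).trans t.equivFin.symm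
  let v : Fin (n + 1) → ProjUP.Γm M := fun i => s (e i).1
  have hv : ProjUP.GeneratedBy _ v := fun x => by
    obtain ⟨z, hz, hxz⟩ := Set.mem_iUnion₂.mp (ht (Set.mem_univ x))
    refine eq_top_iff.mpr fun y _ => ?_
    obtain ⟨c, hc⟩ := (hxz : Gen _ (s z) x) y
    rw [← hc]
    exact Submodule.smul_mem _ _ (Submodule.subset_span ⟨e.symm ⟨z, hz⟩, by simp [v]⟩)
  obtain ⟨r, hrq, τ, -⟩ := ProjUniv.exists_hom (X ↘ Spec (CommRingCat.of k)) hM v hv
  haveI : IsProper (r ≫ CohB1.ProjSpace.toSpec n k) := hrq ▸ ‹_›
  haveI : IsProper (CohB1.ProjSpace.toSpec n k) := isProper_toSpec n k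
  haveI : IsProper r := IsProper.of_comp r (CohB1.ProjSpace.toSpec n k)
  have hqf : ∀ x : X, IsClosed ({x} : Set X) → r.QuasiFiniteAt x := by
    intro x hx
    have hy : IsClosed ({r x} : Set (Proj (CohB1.polyGrading n k))) := by
      have := r.isClosedMap _ hx
      rwa [Set.image_singleton] at this
    obtain ⟨i₀, hi₀⟩ := exists_mem_D (r x)
    let F : Set X := r ⁻¹' {r x}
    have hF : IsClosed F := hy.preimage r.continuous
    have hFne : F ≠ Set.univ := fun h => hne _ (top_unique fun z _ =>
      genOpen_le_map (isInvertible_P1 r) hM τ (pco r i₀) ((gen_pco_iff r i₀ z).mpr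
        (show r z ∈ D n k i₀ by rw [show r z = r x from (h ▸ Set.mem_univ z : z ∈ F)]; exact hi₀)))
    haveI : NoetherianSpace F := NoetherianSpace.set F
    have hFfin : F.Finite := by
      rw [← Set.finite_coe_iff, ← Set.finite_univ_iff, ← sUnion_irreducibleComponents]
      refine NoetherianSpace.finite_irreducibleComponents.sUnion fun C hC => ?_
      have hCc : IsClosed ((Subtype.val : F → X) '' C) :=
        hF.isClosedEmbedding_subtypeVal.isClosedMap _ (isClosed_of_mem_irreducibleComponents C hC)
      have hCi : IsIrreducible ((Subtype.val : F → X) '' C) := hC.1.image _ continuous_subtype_val.continuousOn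
      let J := Scheme.IdealSheafData.vanishingIdeal (⟨_, hCc⟩ : Closeds X)
      haveI : IsIntegral J.subscheme := CohFinite.isIntegral_vanishingIdeal hCc hCi
      have hrange : Set.range J.subschemeι = (Subtype.val : F → X) '' C :=
        CohFinite.range_vanishingIdeal_subschemeι hCc
      letI : J.subscheme.Over (Spec (CommRingCat.of k)) := ⟨J.subschemeι ≫ (X ↘ Spec (CommRingCat.of k))⟩
      haveI : IsProper (J.subscheme ↘ Spec (CommRingCat.of k)) :=
        inferInstanceAs (IsProper (J.subschemeι ≫ (X ↘ Spec (CommRingCat.of k))))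
      have hamp : CohB1.IsAmple ((Scheme.Modules.pullback J.subschemeι).obj M) := by
        refine hsub _ J.subschemeι fun h => hFne (Set.eq_univ_of_univ_subset ?_)
        rw [← h, hrange]
        rintro _ ⟨z, -, rfl⟩
        exact z.2
      let τ' : P1 (J.subschemeι ≫ r) ≅ (Scheme.Modules.pullback J.subschemeι).obj M :=
        ((Scheme.Modules.pullbackComp J.subschemeι r).app _).symm ≪≫ (Scheme.Modules.pullback J.subschemeι).mapIso τ
      have hfin : Finite J.subscheme := by
        refine finite_of_isAmple_of_genOpen_eq_top k hamp (τ'.hom.app ⊤ (pco (J.subschemeι ≫ r) i₀))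
          (top_unique fun z _ => genOpen_le_map (isInvertible_P1 _) hamp.1 τ' _
            ((gen_pco_iff (J.subschemeι ≫ r) i₀ z).mpr ?_))
        obtain ⟨c, -, hc⟩ := hrange.le ⟨z, rfl⟩
        show r (J.subschemeι z) ∈ D n k i₀
        rw [← hc, show r c.1 = r x from c.2]
        exact hi₀
      refine Set.Finite.of_finite_image ?_ Subtype.val_injective.injOn
      rw [← hrange]
      exact Set.finite_range _
    rw [Scheme.Hom.quasiFiniteAt_iff_isOpen_singleton_asFiber]
    haveI : Finite (r.fiber (r x)) := by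
      haveI : Finite (r ⁻¹' {r x}) := Set.finite_coe_iff.mpr hFfin
      exact Finite.of_equiv _ (r.fiberHomeo (r x)).toEquiv.symm
    haveI : LocallyOfFiniteType (r.fiberToSpecResidueField (r x)) :=
      MorphismProperty.pullback_snd (P := @LocallyOfFiniteType) _ _ inferInstance
    haveI : JacobsonSpace (r.fiber (r x)) := LocallyOfFiniteType.jacobsonSpace (r.fiberToSpecResidueField (r x))
    haveI : DiscreteTopology (r.fiber (r x)) := inferInstance
    exact isOpen_discrete _
  haveI : LocallyQuasiFinite r := by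
    rw [← Scheme.Hom.quasiFiniteLocus_eq_top_iff, eq_top_iff]
    intro y _
    obtain ⟨x, hyx, hxc⟩ := IsClosed.exists_closed_singleton (isClosed_closure (s := ({y} : Set X)))
      ⟨y, subset_closure rfl⟩
    exact (specializes_iff_mem_closure.mpr hyx).mem_open r.quasiFiniteLocus.2
      (Scheme.Hom.mem_quasiFiniteLocus.mpr (hqf x hxc))
  haveI : IsFinite r := IsFinite.of_isProper_of_locallyQuasiFinite r
  haveI : CompactSpace (Proj (CohB1.polyGrading n k)) :=
    QuasiCompact.compactSpace_of_compactSpace (CohB1.ProjSpace.toSpec n k)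
  have hA : CohB1.IsAmple (O1 n k) := by
    have := ProjTwist.isAmple_twist (CohB1.polyGrading n k) one_pos fun y => by
      obtain ⟨i, hi⟩ := exists_mem_D y
      exact ⟨MvPolynomial.X i, ProjPoint.X_mem i, hi⟩
    exact this
  exact InvPow.isAmple_of_iso τ (isAmple_pullback_affine hA r)

end Groth.Agent.AmpleDescent
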