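import Groth.Agent.InvPow.RelAmple
import Groth.Agent.InvPow.Avoidance
import Groth.Agent.LocFreeAnn.Free
import Groth.Prelude.Def_FlatMod2
import Mathlib.RingTheory.Norm.Defs
import Mathlib.AlgebraicGeometry.Morphisms.QuasiFinite

/-!
# Ampleness descends along finite locally free surjections (norms of sections)
-/

universe u

open CategoryTheory AlgebraicGeometry TopologicalSpace Opposite

set_option backward.isDefEq.respectTransparency false
set_option maxHeartbeats 1000000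

namespace Groth.Agent.AmpleDescent

open InvBasic ProjUniv Groth.Agent.InvPow

variable {X' X : Scheme.{u}} (g : X' ⟶ X)

/-- A family of functions on `g⁻¹U` that is a basis over every open inside `U`. -/
def FreeOn (U : X.Opens) {r : ℕ} (b : Fin r → Γ(X', g ⁻¹ᵁ U)) : Prop :=
  ∀ (V : X.Opens) (h : V ≤ U), Function.Bijective fun a : Fin r → Γ(X, V) =>
    ∑ i, g.app V (a i) * resR (show g ⁻¹ᵁ V ≤ g ⁻¹ᵁ U from fun _ hy => h hy) (b i)

/-- The norm of a function on `g⁻¹V`. -/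
noncomputable def nm (V : X.Opens) : Γ(X', g ⁻¹ᵁ V) →* Γ(X, V) :=
  letI := (g.app V).hom.toAlgebra
  Algebra.norm Γ(X, V)

variable {g} {U : X.Opens} {r : ℕ} {b : Fin r → Γ(X', g ⁻¹ᵁ U)}

/-- The basis over a smaller open. -/
noncomputable def FreeOn.basis (hb : FreeOn g U b) (V : X.Opens) (h : V ≤ U) :
    letI := (g.app V).hom.toAlgebra
    Module.Basis (Fin r) Γ(X, V) Γ(X', g ⁻¹ᵁ V) :=
  letI := (g.app V).hom.toAlgebra
  Module.Basis.ofEquivFun (LinearEquiv.ofBijective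
    (Fintype.linearCombination Γ(X, V) fun i => resR (show g ⁻¹ᵁ V ≤ g ⁻¹ᵁ U from fun _ hy => h hy) (b i))
    (by
      convert hb V h using 1
      funext a
      simp only [Fintype.linearCombination_apply, Algebra.smul_def]
      rfl)).symm

theorem FreeOn.basis_sum (hb : FreeOn g U b) (V : X.Opens) (h : V ≤ U) (a : Fin r → Γ(X, V)) :
    letI := (g.app V).hom.toAlgebra
    (hb.basis V h).equivFun.symm a =
      ∑ i, g.app V (a i) * resR (show g ⁻¹ᵁ V ≤ g ⁻¹ᵁ U from fun _ hy => h hy) (b i) := by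
  letI := (g.app V).hom.toAlgebra
  rw [FreeOn.basis, Module.Basis.equivFun_ofEquivFun, LinearEquiv.symm_symm, LinearEquiv.ofBijective_apply,
    Fintype.linearCombination_apply]
  simp only [Algebra.smul_def]
  rfl

theorem FreeOn.basis_apply (hb : FreeOn g U b) (V : X.Opens) (h : V ≤ U) (j : Fin r) :
    letI := (g.app V).hom.toAlgebra
    hb.basis V h j = resR (show g ⁻¹ᵁ V ≤ g ⁻¹ᵁ U from fun _ hy => h hy) (b j) := by
  letI := (g.app V).hom.toAlgebra
  classical
  rw [← (hb.basis V h).equivFun.symm_apply_apply (hb.basis V h j), FreeOn.basis_sum, Finset.sum_eq_single j]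
  · simp [Module.Basis.equivFun_self]
  · intro i _ hi
    simp [Module.Basis.equivFun_self, Ne.symm hi]
  · exact fun hn => absurd (Finset.mem_univ j) hn

/-- Norms commute with restriction. -/
theorem nm_res (hb : FreeOn g U b) {V V' : X.Opens} (h : V ≤ U) (h' : V' ≤ V) (c : Γ(X', g ⁻¹ᵁ V)) :
    resR h' (nm g V c) = nm g V' (resR (show g ⁻¹ᵁ V' ≤ g ⁻¹ᵁ V from fun _ hy => h' hy) c) := by
  classical
  letI := (g.app V).hom.toAlgebra
  letI := (g.app V').hom.toAlgebra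
  let B := hb.basis V h
  let B' := hb.basis V' (h'.trans h)
  have hM : (Algebra.leftMulMatrix B' (resR (show g ⁻¹ᵁ V' ≤ g ⁻¹ᵁ V from fun _ hy => h' hy) c)) =
      (X.presheaf.map (homOfLE h').op).hom.mapMatrix (Algebra.leftMulMatrix B c) := by
    ext i j
    rw [Algebra.leftMulMatrix_eq_repr_mul, RingHom.mapMatrix_apply, Matrix.map_apply,
      Algebra.leftMulMatrix_eq_repr_mul]
    obtain ⟨a, ha⟩ : ∃ a : Fin r → Γ(X, V), B.equivFun (c * B j) = a := ⟨_, rfl⟩
    rw [show B.repr (c * B j) i = a i from congrFun ha i]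
    have e : c * B j = B.equivFun.symm a := by rw [← ha, LinearEquiv.symm_apply_apply]
    have e' := congrArg (fun z => (X'.presheaf.map (homOfLE (show g ⁻¹ᵁ V' ≤ g ⁻¹ᵁ V from fun _ hy => h' hy)).op).hom z) e
    simp only [B, map_mul] at e'
    rw [hb.basis_sum V h, map_sum, hb.basis_apply V h] at e'
    have e2 : (resR (show g ⁻¹ᵁ V' ≤ g ⁻¹ᵁ V from fun _ hy => h' hy) c) * B' j =
        B'.equivFun.symm (fun i => X.presheaf.map (homOfLE h').op (a i)) := by
      rw [hb.basis_sum V' (h'.trans h), hb.basis_apply V' (h'.trans h)]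
      refine Eq.trans ?_ (e'.trans (Finset.sum_congr rfl fun i _ => ?_))
      · exact congrArg (fun z => resR _ c * z) (resR_resR _ _ _).symm
      · rw [map_mul]
        exact congrArg₂ (· * ·) (res_app (f := g) h' (a i)) (resR_resR _ _ _)
    rw [e2]
    exact congrFun (B'.equivFun.apply_symm_apply _) i
  show (X.presheaf.map (homOfLE h').op).hom (Algebra.norm Γ(X, V) c) = Algebra.norm Γ(X, V') _
  rw [Algebra.norm_eq_matrix_det B, Algebra.norm_eq_matrix_det B', RingHom.map_det, hM]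

/-- The norm of a function pulled back from the base. -/
theorem nm_app (hb : FreeOn g U b) {V : X.Opens} (h : V ≤ U) (a : Γ(X, V)) : nm g V (g.app V a) = a ^ r := by
  letI := (g.app V).hom.toAlgebra
  show Algebra.norm Γ(X, V) (algebraMap Γ(X, V) Γ(X', g ⁻¹ᵁ V) a) = a ^ r
  rw [Algebra.norm_algebraMap_of_basis (hb.basis V h), Fintype.card_fin]

/-- The rank is determined over a non-empty open. -/
theorem FreeOn.rank_eq (hb : FreeOn g U b) {U₁ : X.Opens} {r₁ : ℕ} {b₁ : Fin r₁ → Γ(X', g ⁻¹ᵁ U₁)}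
    (hb₁ : FreeOn g U₁ b₁) {x : X} (hx : x ∈ U) (hx₁ : x ∈ U₁) : r = r₁ := by
  let V := U ⊓ U₁
  haveI : Nonempty V := ⟨⟨x, hx, hx₁⟩⟩
  letI := (g.app V).hom.toAlgebra
  have h1 := Module.finrank_eq_card_basis (hb.basis V inf_le_left)
  have h2 := Module.finrank_eq_card_basis (hb₁.basis V inf_le_right)
  simpa using h1.symm.trans h2

/-- The rank is positive when the morphism is surjective. -/
theorem FreeOn.rank_pos (hb : FreeOn g U b) [Surjective g] {x : X} (hx : x ∈ U) : 0 < r := by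
  rcases Nat.eq_zero_or_pos r with rfl | h
  · obtain ⟨y, rfl⟩ := g.surjective x
    haveI : Nonempty (g ⁻¹ᵁ U) := ⟨⟨y, hx⟩⟩
    obtain ⟨a, ha⟩ := (hb U le_rfl).2 (1 : Γ(X', g ⁻¹ᵁ U))
    exact absurd ha (by simp)
  · exact h

/-- The non-vanishing locus of a norm. -/
theorem mem_basicOpen_nm (hb : FreeOn g U b) [UniversallyClosed g] {V : X.Opens} (h : V ≤ U)
    (c : Γ(X', g ⁻¹ᵁ V)) (x : X) (hx : x ∈ V) :
    x ∈ X.basicOpen (nm g V c) ↔ ∀ y, g y = x → y ∈ X'.basicOpen c := by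
  have key : ∀ D : X.Opens, (hD : D ≤ V) → (IsUnit (resR hD (nm g V c)) ↔
      IsUnit (resR (show g ⁻¹ᵁ D ≤ g ⁻¹ᵁ V from fun _ hy => hD hy) c)) := by
    intro D hD
    rw [nm_res hb h hD]
    refine ⟨fun hu => ?_, fun hu => hu.map _⟩
    classical
    letI := (g.app D).hom.toAlgebra
    change IsUnit (Algebra.norm Γ(X, D) _) at hu
    rw [Algebra.norm_eq_matrix_det (hb.basis D (hD.trans h))] at hu
    obtain ⟨M, hM⟩ := (Matrix.isUnit_iff_isUnit_det _).mpr hu
    let B := hb.basis D (hD.trans h)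
    refine IsUnit.of_mul_eq_one (Matrix.toLin B B (↑M⁻¹ : Matrix _ _ _) 1) ?_
    have e : Matrix.toLin B B (M : Matrix _ _ _) =
        Algebra.lmul Γ(X, D) Γ(X', g ⁻¹ᵁ D) (resR (show g ⁻¹ᵁ D ≤ g ⁻¹ᵁ V from fun _ hy => hD hy) c) := by
      rw [hM, ← Algebra.toMatrix_lmul_eq, Matrix.toLin_toMatrix]
      rfl
    refine Eq.trans (LinearMap.congr_fun e _).symm ?_
    rw [← LinearMap.comp_apply, ← Matrix.toLin_mul, Units.mul_inv, Matrix.toLin_one]
    rfl
  constructor
  · intro hxD y hy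
    have hu := (key _ (X.basicOpen_le _)).mp (RingedSpace.isUnit_res_basicOpen X.toRingedSpace (nm g V c))
    have : g ⁻¹ᵁ X.basicOpen (nm g V c) ≤ X'.basicOpen c := fun z hz =>
      (X'.mem_basicOpen c z (X.basicOpen_le _ hz)).mpr (by
        have := hu.map (X'.presheaf.germ (g ⁻¹ᵁ X.basicOpen (nm g V c)) z hz).hom
        rwa [TopCat.Presheaf.germ_res_apply] at this)
    exact this (show g y ∈ X.basicOpen (nm g V c) from hy ▸ hxD)
  · intro hfib
    let T : X.Opens := ⟨(g '' ((X'.basicOpen c : Set X')ᶜ))ᶜ,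
      (g.isClosedMap _ (X'.basicOpen c).2.isClosed_compl).isOpen_compl⟩
    have hxT : x ∈ T := fun ⟨y, hy, hyx⟩ => hy (hfib y hyx)
    have hle : g ⁻¹ᵁ (T ⊓ V) ≤ X'.basicOpen c := fun z hz => by
      by_contra hn
      exact hz.1 ⟨z, hn, rfl⟩
    have hu : IsUnit (resR (show g ⁻¹ᵁ (T ⊓ V) ≤ g ⁻¹ᵁ V from fun _ hy => hy.2) c) := by
      refine (congrArg IsUnit (resR_resR (X'.basicOpen_le c) hle c)).mp ?_
      exact (RingedSpace.isUnit_res_basicOpen X'.toRingedSpace c).map (X'.presheaf.map (homOfLE hle).op).hom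
    have hu' := ((key _ inf_le_right).mpr hu).map (X.presheaf.germ (T ⊓ V) x ⟨hxT, hx⟩).hom
    rw [TopCat.Presheaf.germ_res_apply] at hu'
    exact (X.mem_basicOpen _ x hx).mpr hu'

variable (g)

/-- The direct image of the structure sheaf has bases near every point. -/
def HasBases : Prop :=
  ∀ x : X, ∃ (U : X.Opens) (r : ℕ) (b : Fin r → Γ(X', g ⁻¹ᵁ U)), x ∈ U ∧ FreeOn g U b

theorem hasBases_of_isFinLocFree (h : FlatMod.IsFinLocFree ((Coh.push g).obj (Coh.structureModule X'))) :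
    HasBases g := fun x => by
  obtain ⟨U, n, hx, ⟨e⟩⟩ := h x
  obtain ⟨b, hb⟩ := LocFreeAnn.exists_basis e
  exact ⟨U, n, b, hx, fun V hV => hb V hV⟩

theorem HasBases.restrict (h : HasBases g) (W : X.Opens) : HasBases (g ∣_ W) := by
  intro x
  obtain ⟨U, r, b, hx, hb⟩ := h (W.ι x)
  have e : ∀ A : W.toScheme.Opens, (g ⁻¹ᵁ W).ι ''ᵁ ((g ∣_ W) ⁻¹ᵁ A) = g ⁻¹ᵁ (W.ι ''ᵁ A) :=
    image_morphismRestrict_preimage g W
  have hU : ∀ A : W.toScheme.Opens, A ≤ W.ι ⁻¹ᵁ U → W.ι ''ᵁ A ≤ U := by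
    rintro A hA _ ⟨z, hz, rfl⟩
    exact hA hz
  refine ⟨W.ι ⁻¹ᵁ U, r, fun i => X'.presheaf.map (homOfLE ((e _).le.trans
    (fun _ hy => hU _ le_rfl hy))).op (b i), hx, fun A hA => ?_⟩
  have hbij : Function.Bijective (X'.presheaf.map (eqToHom (e A)).op) :=
    ConcreteCategory.bijective_of_isIso _
  refine Eq.mp (congrArg Function.Bijective (funext fun a => ?_)) (hbij.comp (hb (W.ι ''ᵁ A) (hU A hA)))
  refine Eq.symm ?_
  refine Eq.trans ?_ (map_sum (X'.presheaf.map (eqToHom (e A)).op).hom _ Finset.univ).symm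
  refine Finset.sum_congr rfl fun i _ => Eq.trans ?_ (map_mul _ _ _).symm
  refine congrArg₂ (· * ·) (ConcreteCategory.congr_hom (morphismRestrict_app g W A) (a i)) ?_
  show resR (X := X') ((g ⁻¹ᵁ W).ι.image_mono (fun _ hy => hA hy)) (resR (X := X') _ (b i)) =
    resR (X := X') (e A).le (resR (X := X') _ (b i))
  rw [resR_resR, resR_resR]

variable [Surjective g] [UniversallyClosed g]

/-- The norm of a section of a power of the inverse image. -/
theorem exists_norm_section [CompactSpace X] (h : HasBases g) {L : X.Modules} (hL : PicF.IsInvertible L) {n : ℕ}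
    (hn : 0 < n) (σ : Γ(CohB1.tensorPow ((Scheme.Modules.pullback g).obj L) n, ⊤)) :
    ∃ N, 0 < N ∧ ∃ s : Γ(CohB1.tensorPow L N, ⊤), ∀ x : X, x ∈ genOpen (isInvertible_tensorPow hL N) s ↔
      ∀ y, g y = x → y ∈ genOpen (isInvertible_tensorPow (isInvertible_pullback g hL) n) σ := by
  classical
  choose U r b hxU hb using h
  choose V₀ hxV₀ ℓ₀ hℓ₀ using exists_isBasis hL
  obtain ⟨t, ht⟩ := isCompact_univ.elim_finite_subcover (fun x => ((U x ⊓ V₀ x : X.Opens) : Set X))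
    (fun x => (U x ⊓ V₀ x).2) fun x _ => Set.mem_iUnion.mpr ⟨x, hxU x, hxV₀ x⟩
  let V : t → X.Opens := fun i => U i.1 ⊓ V₀ i.1
  have hV : ∀ x, ∃ i, x ∈ V i := fun x => by
    obtain ⟨i, hi, hxi⟩ := Set.mem_iUnion₂.mp (ht (Set.mem_univ x))
    exact ⟨⟨i, hi⟩, hxi⟩
  let ℓ : ∀ i : t, Γ(L, V i) := fun i => res L inf_le_right (ℓ₀ i.1)
  have hℓ : ∀ i, IsBasis L (ℓ i) := fun i => isBasis_res (hℓ₀ i.1) _
  let T := trPull g hL
  choose c hc using fun i => exists_coef (isBasis_pw (T.basis (hℓ i)) n)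
    (gres (CohB1.tensorPow ((Scheme.Modules.pullback g).obj L) n) σ (g ⁻¹ᵁ V i))
  let P : ℕ := ∏ i : t, r i.1
  have hr : ∀ i : t, 0 < r i.1 := fun i => (hb i.1).rank_pos (hxU i.1)
  have hdvd : ∀ i : t, r i.1 ∣ P := fun i => Finset.dvd_prod_of_mem (fun j : t => r j.1) (Finset.mem_univ i)
  have hP : 0 < P := Finset.prod_pos fun i _ => hr i
  obtain ⟨s, hs⟩ := exists_glue_coef (L := L) V hV ℓ (n * P) (fun i => nm g (V i) (c i) ^ (P / r i.1)) fun i j => by
    rcases isEmpty_or_nonempty (V i ⊓ V j : X.Opens) with hE | ⟨⟨x, hxi, hxj⟩⟩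
    · exact QCohLib.section_ext _ _ fun z hz => (hE.false ⟨z, hz⟩).elim
    have hrr : r i.1 = r j.1 := (hb i.1).rank_eq (hb j.1) hxi.1 hxj.1
    let W := V i ⊓ V j
    obtain ⟨u, hu⟩ := exists_coef (isBasis_res (hℓ i) (inf_le_left : W ≤ V i)) (res L (inf_le_right : W ≤ V j) (ℓ j))
    have hWi : g ⁻¹ᵁ W ≤ g ⁻¹ᵁ V i := fun _ hy => hy.1
    have hWj : g ⁻¹ᵁ W ≤ g ⁻¹ᵁ V j := fun _ hy => hy.2
    have h1 := congrArg (res (CohB1.tensorPow ((Scheme.Modules.pullback g).obj L) n) hWi) (hc i)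
    have h2 := congrArg (res (CohB1.tensorPow ((Scheme.Modules.pullback g).obj L) n) hWj) (hc j)
    rw [res_gres, res_smul, res_pw, T.nat inf_le_left] at h1
    rw [res_gres, res_smul, res_pw, T.nat inf_le_right, hu, T.smul, pow_one, pw_smul, smul_smul] at h2
    have h3 : resR hWi (c i) = resR hWj (c j) * (g.app W u : Γ(X', g ⁻¹ᵁ W)) ^ n :=
      coef_unique (isBasis_pw (T.basis (isBasis_res (hℓ i) (inf_le_left : W ≤ V i))) n) (h1.symm.trans h2)
    have h4 := congrArg (nm g W) h3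
    rw [map_mul, map_pow, nm_app (hb i.1) (inf_le_left.trans inf_le_left),
      ← nm_res (hb i.1) inf_le_left inf_le_left, ← nm_res (hb j.1) inf_le_left inf_le_right] at h4
    rw [hu, pw_smul, smul_smul, resR_pow, resR_pow, h4, mul_pow, ← pow_mul, ← pow_mul, hrr,
      mul_left_comm (r j.1) n, Nat.mul_div_cancel' (hdvd j)]
  refine ⟨n * P, Nat.mul_pos hn hP, s, fun x => ?_⟩
  obtain ⟨i, hxi⟩ := hV x
  have hq : 0 < P / r i.1 := Nat.div_pos (Nat.le_of_dvd hP (hdvd i)) (hr i)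
  have h1 := genOpen_inf_eq_basicOpen (isInvertible_tensorPow hL _) (isBasis_pw (hℓ i) _) (hs i)
  rw [X.basicOpen_pow _ hq] at h1
  have h2 := genOpen_inf_eq_basicOpen (isInvertible_tensorPow (isInvertible_pullback g hL) n)
    (isBasis_pw (T.basis (hℓ i)) n) (hc i)
  refine Iff.trans ⟨fun hh => h1.le ⟨hh, hxi⟩, fun hh => (h1.ge hh).1⟩
    ((mem_basicOpen_nm (hb i.1) inf_le_left (c i) x hxi).trans (forall₂_congr fun y hy => ?_))
  exact ⟨fun hh => (h2.ge hh).1, fun hh => h2.le ⟨hh, show g y ∈ V i from hy ▸ hxi⟩⟩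

/-- Ampleness descends along finite locally free surjections. -/
theorem isAmple_of_hasBases [IsFinite g] (h : HasBases g) {L : X.Modules} (hL : PicF.IsInvertible L)
    (hA : CohB1.IsAmple ((Scheme.Modules.pullback g).obj L)) : CohB1.IsAmple L := by
  haveI : CompactSpace X' := hA.2.1
  haveI : CompactSpace X := g.surjective.compactSpace g.continuous
  refine isAmple_of_affLoci hL fun x => ?_
  obtain ⟨V, hxV, ℓ, hℓ⟩ := exists_isBasis hL x
  obtain ⟨A, hA', hxA, hAV⟩ := exists_isAffineOpen_mem_and_subset (X := X) (x := x) (U := V) hxV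
  obtain ⟨n, hn, σ, hZ, hle, -⟩ := exists_locus_finite hA (g ⁻¹' {x}) (g.finite_preimage_singleton x) (g ⁻¹ᵁ A)
    fun y (hy : g y = x) => show g y ∈ A from hy ▸ hxA
  obtain ⟨N, hN, s, hs⟩ := exists_norm_section g h hL hn σ
  refine ⟨N, hN, s, (hs x).mpr fun y hy => hZ hy, ?_⟩
  have hsA : genOpen (isInvertible_tensorPow hL N) s ≤ A := fun z hz => by
    obtain ⟨y, rfl⟩ := g.surjective z
    exact hle ((hs _).mp hz y rfl)
  have hb := isBasis_res hℓ (show A ≤ V from hAV)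
  obtain ⟨c, hc⟩ := exists_coef (isBasis_pw hb N) (gres (CohB1.tensorPow L N) s A)
  have := genOpen_inf_eq_basicOpen (isInvertible_tensorPow hL N) (isBasis_pw hb N) hc
  rw [inf_eq_left.mpr hsA] at this
  exact this ▸ hA'.basicOpen c

end Groth.Agent.AmpleDescent
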