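import Groth.Agent.ModGroth.PushTensor
import Groth.Agent.HilbPoly.Tensor
import Groth.Agent.InvPow.PullBasisLocal
import Groth.Agent.InvPow.GloballyGenerated

/-!
# Projection formula for an invertible module
-/

universe u

open CategoryTheory CategoryTheory.Limits AlgebraicGeometry TopologicalSpace Opposite

set_option backward.isDefEq.respectTransparency false
set_option maxHeartbeats 800000

namespace Groth.Agent.AmpleDescent

open InvBasic ProjUniv Groth.Agent.InvPow Groth.Agent.HilbPoly Groth.Agent.ModGroth.PushStalk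

variable {X Y : Scheme.{u}} (f : X ⟶ Y)

theorem isIso_beta_of_isInvertible (M : X.Modules) {N : Y.Modules} (hN : PicF.IsInvertible N) :
    IsIso (beta f M N) := by
  choose V hxV ℓ hℓ using exists_isBasis hN
  have hbij : ∀ (x : Y) (W : Y.Opens) (hW : W ≤ V x), Function.Bijective
      (Scheme.Modules.Hom.app (beta f M N : CohB1.tensorMod ((Scheme.Modules.pushforward f).obj M) N ⟶
        (Scheme.Modules.pushforward f).obj (CohB1.tensorMod M ((Scheme.Modules.pullback f).obj N))) W) := by
    intro x W hW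
    have h1 := tmul_bij ((Scheme.Modules.pushforward f).obj M) (hℓ x) hW
    have h2 := tmul_bij M (isBasis_pullLoc f hN (hℓ x)) (W := f ⁻¹ᵁ W) (fun y hy => hW hy)
    refine (Function.Bijective.of_comp_iff (f := Scheme.Modules.Hom.app (beta f M N : CohB1.tensorMod ((Scheme.Modules.pushforward f).obj M) N ⟶ (Scheme.Modules.pushforward f).obj (CohB1.tensorMod M ((Scheme.Modules.pullback f).obj N))) W) h1).1 ?_
    refine Eq.mpr (congrArg Function.Bijective (funext fun (m : Γ((Scheme.Modules.pushforward f).obj M, W)) => ?_)) h2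
    refine (congrArg (fun t => t.app (op W) (ModGroth.Stalk.tm' _ _ (U := W) m (res N hW (ℓ x))))
      (eta_beta f M N)).trans ?_
    show SecTwist.tmul M ((Scheme.Modules.pullback f).obj N) (f ⁻¹ᵁ W) m (pullLoc f N (res N hW (ℓ x))) = _
    exact congrArg _ (res_pullLoc f N hW (ℓ x)).symm
  rw [QCohLib.isIso_iff_stalk_bijective]
  intro y
  let φ : CohB1.tensorMod ((Scheme.Modules.pushforward f).obj M) N ⟶
      (Scheme.Modules.pushforward f).obj (CohB1.tensorMod M ((Scheme.Modules.pullback f).obj N)) := beta f M N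
  show Function.Bijective (QCohLib.stalkHom φ y)
  refine ⟨?_, fun z => ?_⟩
  · rw [injective_iff_map_eq_zero]
    intro a ha
    obtain ⟨U, hyU, s, rfl⟩ := TopCat.Presheaf.exists_germ_eq _ a
    rw [QCohLib.stalkHom_germ] at ha
    obtain ⟨W, hyW, i₁, i₂, he⟩ := TopCat.Presheaf.germ_eq _ y hyU hyU (φ.app U s) 0 (ha.trans (map_zero _).symm)
    let W' : Y.Opens := W ⊓ V y
    have h0 : φ.app W' (res _ (inf_le_left.trans i₁.le : W' ≤ U) s) = 0 := by
      refine (QCohLib.app_map φ (inf_le_left.trans i₁.le : W' ≤ U) s).trans ?_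
      have := congrArg (res ((Scheme.Modules.pushforward f).obj (CohB1.tensorMod M ((Scheme.Modules.pullback f).obj N)))
        (inf_le_left : W' ≤ W)) he
      rw [map_zero] at this
      exact (QCohLib.map_map _ _ _ _).symm.trans (this.trans (map_zero _))
    have hs0 := (hbij y W' inf_le_right).1 (h0.trans (map_zero _).symm)
    refine (TopCat.Presheaf.germ_res_apply _ (homOfLE (inf_le_left.trans i₁.le : W' ≤ U)) y ⟨hyW, hxV y⟩ s).symm.trans ?_
    exact (congrArg _ hs0).trans (map_zero _)
  · obtain ⟨U, hyU, t, rfl⟩ := TopCat.Presheaf.exists_germ_eq _ z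
    let W' : Y.Opens := U ⊓ V y
    obtain ⟨s, hs⟩ := (hbij y W' inf_le_right).2 (((Scheme.Modules.pushforward f).obj
      (CohB1.tensorMod M ((Scheme.Modules.pullback f).obj N))).presheaf.map (homOfLE (inf_le_left : W' ≤ U)).op t)
    refine ⟨(CohB1.tensorMod ((Scheme.Modules.pushforward f).obj M) N).presheaf.germ W' y ⟨hyU, hxV y⟩ s, ?_⟩
    rw [QCohLib.stalkHom_germ]
    exact (congrArg _ hs).trans (TopCat.Presheaf.germ_res_apply _ _ y _ t)

end Groth.Agent.AmpleDescent
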